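import Groth.Agent.EGAProj74.FracSections
import Groth.Agent.EGAProj74.RelTwistMap
import Groth.Agent.EGAProj74.RelEmbVal
import Groth.Agent.EGAProj74.GenDegOne
import Groth.Agent.QC70.Res

/-!
The opens `D₊(g) ⊆ p⁻¹(W)` of a relative Proj and the functions `a / g ^ j` on them.
-/

set_option autoImplicit false
set_option backward.isDefEq.respectTransparency.types false

universe u

open CategoryTheory AlgebraicGeometry TopologicalSpace Opposite
open scoped HomogeneousIdeal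

noncomputable section

namespace Groth.Agent.EGAProj74.GammaRel

open QC70 (res resO)

/-- An affine open of the base with an element of degree one. -/
structure Key {Y : Scheme.{u}} (𝒮 : RelProj.QCGrAlg Y) : Type u where
  W : Y.Opens
  hW : IsAffineOpen W
  g : 𝒮.presheaf.obj (op W)
  hg : g ∈ 𝒮.deg W hW 1

variable {Y P : Scheme.{u}} {𝒮 : RelProj.QCGrAlg Y}

/-- Restriction of a key to a smaller affine open. -/
def Key.restr (k : Key 𝒮) {W' : Y.Opens} (hW' : IsAffineOpen W') (i : W' ≤ k.W) : Key 𝒮 :=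
  ⟨W', hW', 𝒮.res k.hW hW' i k.g, (𝒮.res k.hW hW' i).map_mem k.hg⟩

/-- Restriction of homogeneous elements. -/
def degRes {U V : Y.Opens} (hU : IsAffineOpen U) (hV : IsAffineOpen V) (i : V ≤ U) (j : ℕ)
    (a : 𝒮.deg U hU j) : 𝒮.deg V hV j :=
  ⟨𝒮.res hU hV i a, (𝒮.res hU hV i).map_mem a.2⟩

variable (p : P ⟶ Y)
  (chart : ∀ (U : Y.Opens) (hU : IsAffineOpen U), (((p ⁻¹ᵁ U : P.Opens) : Scheme.{u}) ≅ Proj (𝒮.deg U hU)))

/-- The open `D₊(g)` of `p⁻¹(W)`. -/
def dop (k : Key 𝒮) : P.Opens :=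
  RelProj.emb p chart k.W k.hW ''ᵁ Proj.basicOpen (𝒮.deg k.W k.hW) k.g

theorem isAffineOpen_dop (k : Key 𝒮) : IsAffineOpen (dop p chart k) :=
  (Proj.isAffineOpen_basicOpen _ _ k.hg one_pos).image_of_isOpenImmersion _

theorem mem_dop {k : Key 𝒮} {z : P} :
    z ∈ dop p chart k ↔
      ∃ y : Proj (𝒮.deg k.W k.hW), k.g ∉ y.asHomogeneousIdeal ∧ (RelProj.emb p chart k.W k.hW).base y = z :=
  Iff.rfl

theorem emb_mem_dop {k : Key 𝒮} {y : Proj (𝒮.deg k.W k.hW)} :
    (RelProj.emb p chart k.W k.hW).base y ∈ dop p chart k ↔ k.g ∉ y.asHomogeneousIdeal :=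
  ⟨fun ⟨y', hy', e⟩ => by rwa [← (RelProj.emb p chart k.W k.hW).isOpenEmbedding.injective e],
    fun h => ⟨y, h, rfl⟩⟩

theorem emb_mem_preimage (U : Y.Opens) (hU : IsAffineOpen U) (y : Proj (𝒮.deg U hU)) :
    (RelProj.emb p chart U hU).base y ∈ p ⁻¹ᵁ U := by
  rw [← opensRange_emb (chart := chart) U hU]
  exact ⟨y, rfl⟩

theorem dop_le (k : Key 𝒮) : dop p chart k ≤ p ⁻¹ᵁ k.W := by
  rw [← opensRange_emb (chart := chart) k.W k.hW]
  exact Scheme.Hom.image_le_opensRange _ _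

theorem exists_emb (U : Y.Opens) (hU : IsAffineOpen U) {z : P} (hz : z ∈ p ⁻¹ᵁ U) :
    ∃ y, (RelProj.emb p chart U hU).base y = z := by
  rw [← opensRange_emb (chart := chart) U hU] at hz
  exact hz

/-- Functions on an open inside `p⁻¹(U)` are determined by their values. -/
theorem ext_pval (U : Y.Opens) (hU : IsAffineOpen U) {O : P.Opens} (hO : O ≤ p ⁻¹ᵁ U) {r r' : Γ(P, O)}
    (h : ∀ (y : Proj (𝒮.deg U hU)) (hy : (RelProj.emb p chart U hU).base y ∈ O),
      (((RelProj.emb p chart U hU).app O r).1 ⟨y, hy⟩).val = (((RelProj.emb p chart U hU).app O r').1 ⟨y, hy⟩).val) :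
    r = r' := by
  have := (RelProj.emb p chart U hU).isIso_app O (hO.trans (opensRange_emb (chart := chart) U hU).ge)
  refine (ConcreteCategory.bijective_of_isIso ((RelProj.emb p chart U hU).app O)).injective ?_
  exact Subtype.ext (funext fun y => HomogeneousLocalization.val_injective _ (h y.1 y.2))

theorem deg_mul_one (k : Key 𝒮) {j : ℕ} (a : 𝒮.deg k.W k.hW j) :
    (a : 𝒮.presheaf.obj (op k.W)) ∈ 𝒮.deg k.W k.hW (j * 1) := by
  rw [mul_one]; exact a.2

/-- `a / g ^ j` on the chart. -/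
def scalAt (k : Key 𝒮) {j : ℕ} (a : 𝒮.deg k.W k.hW j) :
    Γ(Proj (𝒮.deg k.W k.hW), Proj.basicOpen (𝒮.deg k.W k.hW) k.g) :=
  FracSections.scal k.hg one_pos j (deg_mul_one k a)

theorem scalAt_add (k : Key 𝒮) {j : ℕ} (a b : 𝒮.deg k.W k.hW j) :
    scalAt k (a + b) = scalAt k a + scalAt k b :=
  FracSections.scal_add k.hg one_pos (deg_mul_one k a) (deg_mul_one k b)

/-- The function `a / g ^ j` on `D₊(g)`. -/
def fr (k : Key 𝒮) (j : ℕ) : 𝒮.deg k.W k.hW j →+ Γ(P, dop p chart k) :=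
  AddMonoidHom.mk'
    (fun a => ((RelProj.emb p chart k.W k.hW).appIso (Proj.basicOpen (𝒮.deg k.W k.hW) k.g)).inv.hom (scalAt k a))
    (fun a b => (congrArg ((RelProj.emb p chart k.W k.hW).appIso (Proj.basicOpen (𝒮.deg k.W k.hW) k.g)).inv.hom
      (scalAt_add k a b)).trans (map_add ((RelProj.emb p chart k.W k.hW).appIso (Proj.basicOpen (𝒮.deg k.W k.hW) k.g)).inv.hom _ _))

theorem fr_apply (k : Key 𝒮) {j : ℕ} (a : 𝒮.deg k.W k.hW j) :
    fr p chart k j a = ((RelProj.emb p chart k.W k.hW).appIso (Proj.basicOpen (𝒮.deg k.W k.hW) k.g)).inv.hom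
      (scalAt k a) := rfl

theorem pval_fr (k : Key 𝒮) {j : ℕ} (a : 𝒮.deg k.W k.hW j) {O : P.Opens} (hO : O ≤ dop p chart k)
    (y : Proj (𝒮.deg k.W k.hW)) (hy : (RelProj.emb p chart k.W k.hW).base y ∈ O)
    (hg : k.g ∉ y.asHomogeneousIdeal) :
    (((RelProj.emb p chart k.W k.hW).app O (resO P hO (fr p chart k j a))).1 ⟨y, hy⟩).val =
      Localization.mk (a : 𝒮.presheaf.obj (op k.W)) ⟨k.g ^ j, GrT.pow_notMem hg j⟩ := by
  let e := RelProj.emb p chart k.W k.hW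
  let q := scalAt k a
  have h1 := congr($(e.naturality (homOfLE hO).op).hom (fr p chart k j a))
  refine (congrArg (fun r => (r.1 ⟨y, hy⟩).val) h1).trans ?_
  have h2 : e.app (dop p chart k) (fr p chart k j a) =
      (Proj (𝒮.deg k.W k.hW)).presheaf.map (eqToHom (e.preimage_image_eq _)).op q :=
    congr($(e.appIso_inv_app _).hom q)
  refine (congrArg (fun r => (((Proj (𝒮.deg k.W k.hW)).presheaf.map
    ((Opens.map e.base).map (homOfLE hO)).op r).1 ⟨y, hy⟩).val) h2).trans ?_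
  exact FracSections.scal_val k.hg one_pos j (deg_mul_one k a) ⟨y, hg⟩

theorem fr_mul (k : Key 𝒮) {i j : ℕ} (a : 𝒮.deg k.W k.hW i) (b : 𝒮.deg k.W k.hW j) :
    fr p chart k (i + j) ⟨(a : 𝒮.presheaf.obj (op k.W)) * b, SetLike.mul_mem_graded a.2 b.2⟩ =
      fr p chart k i a * fr p chart k j b := by
  exact (congrArg ((RelProj.emb p chart k.W k.hW).appIso (Proj.basicOpen (𝒮.deg k.W k.hW) k.g)).inv.hom
    (FracSections.scal_mul k.hg one_pos (deg_mul_one k a) (deg_mul_one k b)).symm).trans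
      (map_mul ((RelProj.emb p chart k.W k.hW).appIso (Proj.basicOpen (𝒮.deg k.W k.hW) k.g)).inv.hom _ _)

theorem fr_congr (k : Key 𝒮) {j : ℕ} {a b : 𝒮.deg k.W k.hW j}
    (h : (a : 𝒮.presheaf.obj (op k.W)) = b) : fr p chart k j a = fr p chart k j b := by
  rw [Subtype.ext h]

theorem fr_pow_self (k : Key 𝒮) (j : ℕ) (h : k.g ^ j ∈ 𝒮.deg k.W k.hW j) :
    fr p chart k j ⟨k.g ^ j, h⟩ = 1 := by
  exact (congrArg ((RelProj.emb p chart k.W k.hW).appIso (Proj.basicOpen (𝒮.deg k.W k.hW) k.g)).inv.hom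
    (FracSections.scal_self k.hg one_pos j)).trans
      (map_one ((RelProj.emb p chart k.W k.hW).appIso (Proj.basicOpen (𝒮.deg k.W k.hW) k.g)).inv.hom)

theorem fr_self (k : Key 𝒮) : fr p chart k 1 ⟨k.g, k.hg⟩ = 1 :=
  (fr_congr p chart k (b := ⟨k.g ^ 1, by rw [pow_one]; exact k.hg⟩) (pow_one k.g).symm).trans (fr_pow_self p chart k 1 _)

theorem fr_one (k : Key 𝒮) (h : (1 : 𝒮.presheaf.obj (op k.W)) ∈ 𝒮.deg k.W k.hW 0) :
    fr p chart k 0 ⟨1, h⟩ = 1 :=
  (fr_congr p chart k (b := ⟨k.g ^ 0, by rw [pow_zero]; exact h⟩) (pow_zero k.g).symm).trans (fr_pow_self p chart k 0 _)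

theorem fr_pow (k : Key 𝒮) {j : ℕ} (a : 𝒮.deg k.W k.hW j) (n : ℕ)
    (h : (a : 𝒮.presheaf.obj (op k.W)) ^ n ∈ 𝒮.deg k.W k.hW (n * j)) :
    fr p chart k (n * j) ⟨(a : 𝒮.presheaf.obj (op k.W)) ^ n, h⟩ = fr p chart k j a ^ n := by
  induction n with
  | zero =>
    have e : ∀ (m : ℕ) (hm : (a : 𝒮.presheaf.obj (op k.W)) ^ 0 ∈ 𝒮.deg k.W k.hW m), m = 0 →
        fr p chart k m ⟨_, hm⟩ = 1 := by
      rintro m hm rfl
      exact (fr_congr p chart k (b := ⟨1, by simpa using hm⟩) (pow_zero _)).trans (fr_one p chart k _)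
    rw [pow_zero (fr p chart k j a)]
    exact e _ h (Nat.zero_mul j)
  | succ n ih =>
    have hn : (a : 𝒮.presheaf.obj (op k.W)) ^ n ∈ 𝒮.deg k.W k.hW (n * j) := by
      simpa using SetLike.pow_mem_graded n a.2
    have e : ∀ (m : ℕ) (hm : (a : 𝒮.presheaf.obj (op k.W)) ^ (n + 1) ∈ 𝒮.deg k.W k.hW m), m = n * j + j →
        fr p chart k m ⟨_, hm⟩ = fr p chart k j a ^ (n + 1) := by
      rintro m hm rfl
      exact (fr_congr p chart k (b := ⟨(a : 𝒮.presheaf.obj (op k.W)) ^ n * a, SetLike.mul_mem_graded hn a.2⟩) (pow_succ _ _)).trans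
        ((fr_mul p chart k ⟨_, hn⟩ a).trans (by rw [ih hn, pow_succ]))
    exact e _ h (Nat.succ_mul n j)

theorem basicOpen_fr (k : Key 𝒮) {j : ℕ} (a : 𝒮.deg k.W k.hW j) :
    P.basicOpen (fr p chart k j a) =
      RelProj.emb p chart k.W k.hW ''ᵁ Proj.basicOpen (𝒮.deg k.W k.hW) (k.g * a) := by
  refine (Scheme.image_basicOpen (RelProj.emb p chart k.W k.hW) (scalAt k a)).symm.trans ?_
  refine congrArg (fun t => RelProj.emb p chart k.W k.hW ''ᵁ t) ?_
  refine GrT.proj_basicOpen_eq _ (deg_mul_one k a) (FracSections.pow_mem k.hg j) fun x => ?_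
  refine HomogeneousLocalization.val_injective _ ?_
  rw [GrT.a0Frac, HomogeneousLocalization.val_mk]
  exact FracSections.scal_val k.hg one_pos j (deg_mul_one k a) x

theorem emb_mem_basicOpen_fr {k : Key 𝒮} {j : ℕ} {a : 𝒮.deg k.W k.hW j} {y : Proj (𝒮.deg k.W k.hW)} :
    (RelProj.emb p chart k.W k.hW).base y ∈ P.basicOpen (fr p chart k j a) ↔
      k.g ∉ y.asHomogeneousIdeal ∧ (a : 𝒮.presheaf.obj (op k.W)) ∉ y.asHomogeneousIdeal := by
  rw [basicOpen_fr]
  constructor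
  · rintro ⟨y', hy', e⟩
    rw [← (RelProj.emb p chart k.W k.hW).isOpenEmbedding.injective e]
    exact ⟨fun h => hy' (Ideal.mul_mem_right _ _ h), fun h => hy' (Ideal.mul_mem_left _ _ h)⟩
  · rintro ⟨hg, ha⟩
    exact ⟨y, GrT.mul_notMem hg ha, rfl⟩

variable (hP : RelProj.IsRelProj 𝒮 p chart)
include hP

theorem emb_comap {U V : Y.Opens} (hU : IsAffineOpen U) (hV : IsAffineOpen V) (i : V ≤ U)
    (y : Proj (𝒮.deg V hV)) :
    (RelProj.emb p chart U hU).base
        (ProjectiveSpectrum.comap (𝒮.res hU hV i) (irrelevant_le_map_res 𝒮 hU hV i) y) =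
      (RelProj.emb p chart V hV).base y :=
  congr($(map_res_emb' hP hU hV i).base y)

theorem mem_dop_iff_of_le {k : Key 𝒮} {V : Y.Opens} (hV : IsAffineOpen V) (i : V ≤ k.W)
    (y : Proj (𝒮.deg V hV)) :
    (RelProj.emb p chart V hV).base y ∈ dop p chart k ↔ 𝒮.res k.hW hV i k.g ∉ y.asHomogeneousIdeal := by
  rw [← emb_comap p chart hP k.hW hV i y, emb_mem_dop]
  rfl

theorem dop_restr (k : Key 𝒮) {W' : Y.Opens} (hW' : IsAffineOpen W') (i : W' ≤ k.W) :
    dop p chart (k.restr hW' i) = dop p chart k ⊓ p ⁻¹ᵁ W' := by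
  ext z
  constructor
  · intro hz
    obtain ⟨y, hy, rfl⟩ := (mem_dop p chart).mp hz
    exact ⟨(mem_dop_iff_of_le p chart hP hW' i y).mpr hy, emb_mem_preimage p chart W' hW' y⟩
  · rintro ⟨hz, hzW⟩
    obtain ⟨y, rfl⟩ := exists_emb p chart W' hW' hzW
    exact (emb_mem_dop p chart (k := k.restr hW' i)).mpr ((mem_dop_iff_of_le p chart hP hW' i y).mp hz)

theorem pval_fr_of_le {k : Key 𝒮} {V : Y.Opens} (hV : IsAffineOpen V) (i : V ≤ k.W) {j : ℕ}
    (a : 𝒮.deg k.W k.hW j) {O : P.Opens} (hO : O ≤ dop p chart k) (y : Proj (𝒮.deg V hV))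
    (hy : (RelProj.emb p chart V hV).base y ∈ O) (hg : 𝒮.res k.hW hV i k.g ∉ y.asHomogeneousIdeal) :
    (((RelProj.emb p chart V hV).app O (resO P hO (fr p chart k j a))).1 ⟨y, hy⟩).val =
      Localization.mk (𝒮.res k.hW hV i (a : 𝒮.presheaf.obj (op k.W)))
        ⟨𝒮.res k.hW hV i k.g ^ j, GrT.pow_notMem hg j⟩ := by
  have hy' : (RelProj.emb p chart k.W k.hW).base
      (ProjectiveSpectrum.comap (𝒮.res k.hW hV i) (irrelevant_le_map_res 𝒮 k.hW hV i) y) ∈ O := by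
    rw [emb_comap p chart hP]; exact hy
  refine (app_val_congr (map_res_emb' hP k.hW hV i).symm O _ y hy hy').trans ?_
  rw [Scheme.Hom.comp_app]
  refine (map_app_val (𝒮.res k.hW hV i) (irrelevant_le_map_res 𝒮 k.hW hV i) _ _ y hy').trans ?_
  refine (congrArg (GrTwist.locMap (𝒮.res k.hW hV i) (irrelevant_le_map_res 𝒮 k.hW hV i) y)
    (pval_fr p chart k a hO _ hy' hg)).trans ?_
  rw [GrTwist.locMap_mk]
  congr 1
  exact Subtype.ext (map_pow _ _ _)

/-- Comparison of the functions on nested keys. -/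
theorem fr_compat {k k' : Key 𝒮} (i : k'.W ≤ k.W) {j : ℕ} (a : 𝒮.deg k.W k.hW j) {O : P.Opens}
    (h : O ≤ dop p chart k) (h' : O ≤ dop p chart k') :
    resO P h' (fr p chart k' j (degRes k.hW k'.hW i j a)) =
      resO P h' (fr p chart k' 1 (degRes k.hW k'.hW i 1 ⟨k.g, k.hg⟩)) ^ j * resO P h (fr p chart k j a) := by
  refine ext_pval p chart k'.W k'.hW (h'.trans (dop_le p chart k')) fun y hy => ?_
  have hg' : k'.g ∉ y.asHomogeneousIdeal := (emb_mem_dop p chart).mp (h' hy)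
  have hg : 𝒮.res k.hW k'.hW i k.g ∉ y.asHomogeneousIdeal := (mem_dop_iff_of_le p chart hP k'.hW i y).mp (h hy)
  rw [map_mul, map_pow]
  refine (pval_fr p chart k' _ h' y hy hg').trans ?_
  show _ = (((RelProj.emb p chart k'.W k'.hW).app O (resO P h' (fr p chart k' 1 _))).1 ⟨y, hy⟩ ^ j *
    ((RelProj.emb p chart k'.W k'.hW).app O (resO P h (fr p chart k j a))).1 ⟨y, hy⟩ :
      GrTwist.A0 (𝒮.deg k'.W k'.hW) y).val
  rw [HomogeneousLocalization.val_mul, HomogeneousLocalization.val_pow, pval_fr p chart k' _ h' y hy hg',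
    pval_fr_of_le p chart hP k'.hW i a h y hy hg, Localization.mk_pow, Localization.mk_mul,
    Localization.mk_eq_mk_iff, Localization.r_iff_exists]
  refine ⟨1, ?_⟩
  simp only [degRes, OneMemClass.coe_one, one_mul, SubmonoidClass.coe_pow, Submonoid.coe_mul, pow_one]
  ring

omit hP in
theorem ratio_restr (k : Key 𝒮) {W' : Y.Opens} (hW' : IsAffineOpen W') (i : W' ≤ k.W) :
    fr p chart (k.restr hW' i) 1 (degRes k.hW (k.restr hW' i).hW i 1 ⟨k.g, k.hg⟩) = 1 :=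
  fr_self p chart (k.restr hW' i)

theorem fr_restr (k : Key 𝒮) {W' : Y.Opens} (hW' : IsAffineOpen W') (i : W' ≤ k.W) {j : ℕ}
    (a : 𝒮.deg k.W k.hW j) {O : P.Opens} (h : O ≤ dop p chart k) (h' : O ≤ dop p chart (k.restr hW' i)) :
    resO P h' (fr p chart (k.restr hW' i) j (degRes k.hW hW' i j a)) = resO P h (fr p chart k j a) := by
  have e := fr_compat p chart hP (k' := k.restr hW' i) i a h h'
  refine e.trans ?_
  rw [show resO P h' (fr p chart (k.restr hW' i) 1 (degRes k.hW (k.restr hW' i).hW i 1 ⟨k.g, k.hg⟩)) = 1 from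
    (congrArg (resO P h') (ratio_restr p chart k hW' i)).trans (map_one (P.presheaf.map (homOfLE h').op).hom),
    one_pow, one_mul]

/-- The functions of the base in degree zero. -/
theorem fr_str (k : Key 𝒮) (r : Γ(Y, k.W)) :
    fr p chart k 0 ⟨(𝒮.str.app (op k.W)).hom r, 𝒮.str_mem k.W k.hW r⟩ =
      resO P (dop_le p chart k) (p.app k.W r) := by
  refine ext_pval p chart k.W k.hW (dop_le p chart k) fun y hy => ?_
  have hg := (emb_mem_dop p chart).mp hy
  have e := pval_fr p chart k (⟨(𝒮.str.app (op k.W)).hom r, 𝒮.str_mem k.W k.hW r⟩ : 𝒮.deg k.W k.hW 0)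
    le_rfl y hy hg
  rw [QC70.resO_self] at e
  refine e.trans ?_
  have h1 := congr($((RelProj.emb p chart k.W k.hW).naturality (homOfLE (dop_le p chart k)).op).hom (p.app k.W r))
  refine Eq.trans ?_ (congrArg (fun q => (q.1 ⟨y, hy⟩).val) h1).symm
  refine Eq.trans ?_ (emb_app_p_val hP k.W k.hW r y (emb_mem_preimage p chart k.W k.hW y)).symm
  congr 1
  exact Subtype.ext (pow_zero _)

theorem basicOpen_fr_str (k : Key 𝒮) (r : Γ(Y, k.W)) :
    P.basicOpen (fr p chart k 0 ⟨(𝒮.str.app (op k.W)).hom r, 𝒮.str_mem k.W k.hW r⟩) =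
      dop p chart k ⊓ p ⁻¹ᵁ Y.basicOpen r := by
  rw [fr_str p chart hP]
  exact (Scheme.basicOpen_res P (p.app k.W r) (homOfLE (dop_le p chart k)).op).trans (by rw [Scheme.preimage_basicOpen])

omit hP in
/-- A finite family of degree-one elements covering `p⁻¹(W)`. -/
theorem exists_gens (hgen : 𝒮.IsGenDegOne) (hft : 𝒮.IsFTDeg 1) (W : Y.Opens) (hW : IsAffineOpen W) :
    ∃ s : Finset (𝒮.deg W hW 1), ∀ y : Proj (𝒮.deg W hW),
      ∃ g ∈ s, (g : 𝒮.presheaf.obj (op W)) ∉ y.asHomogeneousIdeal := by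
  classical
  obtain ⟨T, hT, hspan⟩ := hft W hW
  refine ⟨T.attach.image fun t => ⟨t.1, hT t.2⟩, fun y => ?_⟩
  by_contra H
  push Not at H
  refine y.not_irrelevant_le fun x hx => (Ideal.span_le.mpr (fun t ht => ?_) :
    Ideal.span (↑T : Set (𝒮.presheaf.obj (op W))) ≤ y.asHomogeneousIdeal.toIdeal)
      (irrelevant_le_span_finset (hgen W hW) (𝒮.strZero W hW).hom T hspan hx)
  exact H ⟨t, hT ht⟩ (Finset.mem_image.mpr ⟨⟨t, ht⟩, Finset.mem_attach _ _, rfl⟩)

attribute [irreducible] fr dop scalAt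

end Groth.Agent.EGAProj74.GammaRel
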