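import Groth.Agent.EGAProj74.GammaRel.Frac
import Groth.Agent.QC70.Closure
import Groth.Agent.QC70.Loc

/-!
Families of sections on the opens `D₊(g)` compatible in a given degree: gluing and extension.
-/

set_option autoImplicit false
set_option backward.isDefEq.respectTransparency.types false

universe u

open CategoryTheory AlgebraicGeometry TopologicalSpace Opposite

noncomputable section

namespace Groth.Agent.EGAProj74.GammaRel

open QC70 (res resO)

variable {Y P : Scheme.{u}} {𝒮 : RelProj.QCGrAlg Y}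

/-- The keys inside an open of the base. -/
abbrev Keys (𝒮 : RelProj.QCGrAlg Y) (V : Y.Opens) : Type u := {k : Key 𝒮 // k.W ≤ V}

theorem Key.restr_restr (k : Key 𝒮) {W₁ W₂ : Y.Opens} (h₁ : IsAffineOpen W₁) (h₂ : IsAffineOpen W₂)
    (i : W₁ ≤ k.W) (j : W₂ ≤ W₁) : (k.restr h₁ i).restr h₂ j = k.restr h₂ (j.trans i) := by
  have e : 𝒮.res h₁ h₂ j (𝒮.res k.hW h₁ i k.g) = 𝒮.res k.hW h₂ (j.trans i) k.g := res_res_apply 𝒮 i j k.g
  simp only [Key.restr]
  congr 1

theorem res_self_apply {U : Y.Opens} (hU : IsAffineOpen U) (x : 𝒮.presheaf.obj (op U)) :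
    𝒮.res hU hU le_rfl x = x := by
  show (𝒮.presheaf.map (homOfLE (le_refl U)).op).hom x = x
  rw [show (homOfLE (le_refl U)).op = 𝟙 (op U) from rfl, 𝒮.presheaf.map_id]
  rfl

theorem degRes_self {U : Y.Opens} (hU : IsAffineOpen U) {j : ℕ} (a : 𝒮.deg U hU j) :
    degRes hU hU le_rfl j a = a :=
  Subtype.ext (res_self_apply hU _)

theorem degRes_degRes {U V W : Y.Opens} (hU : IsAffineOpen U) (hV : IsAffineOpen V) (hW : IsAffineOpen W)
    (i : V ≤ U) (i' : W ≤ V) {j : ℕ} (a : 𝒮.deg U hU j) :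
    degRes hV hW i' j (degRes hU hV i j a) = degRes hU hW (i'.trans i) j a :=
  Subtype.ext (res_res_apply 𝒮 i i' _)

/-- A uniform exponent for finitely many extensions. -/
theorem exists_uniform_ext {X : Scheme.{u}} (F : X.Modules) [F.IsQuasicoherent] {ι : Type*} [Fintype ι]
    (U : ι → X.Opens) (hU : ∀ i, IsAffineOpen (U i)) (r : ∀ i, Γ(X, U i)) (x : ∀ i, Γ(F, X.basicOpen (r i))) :
    ∃ (K : ℕ) (t : ∀ i, Γ(F, U i)), ∀ i,
      res F (X.basicOpen_le (r i)) (t i) = resO X (X.basicOpen_le (r i)) (r i) ^ K • x i := by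
  choose N t₀ ht₀ using fun i => (QC70.isLocAt_of_isQuasicoherent F (hU i)).exists_of (r i) (x i)
  refine ⟨Finset.univ.sup N, fun i => r i ^ (Finset.univ.sup N - N i) • t₀ i, fun i => ?_⟩
  rw [QC70.res_pow_smul, ht₀ i, smul_smul, ← pow_add, Nat.sub_add_cancel (Finset.le_sup (Finset.mem_univ i))]

/-- Extension of compatible sections from basic opens, with a uniform exponent. -/
theorem exists_ext_compat {X : Scheme.{u}} (F : X.Modules) [F.IsQuasicoherent] {ι : Type*} [Fintype ι]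
    (U : ι → X.Opens) (hU : ∀ i, IsAffineOpen (U i)) (r : ∀ i, Γ(X, U i)) (ρ : ∀ _i j : ι, Γ(X, U j)) (n e : ℕ)
    (hρ : ∀ i j, X.basicOpen (ρ i j) = U i ⊓ U j)
    (hr : ∀ (i j : ι) (O : X.Opens) (h : O ≤ U i) (h' : O ≤ U j),
      resO X h' (r j) = resO X h' (ρ i j) ^ e * resO X h (r i))
    (hbo : ∀ i j, U i ⊓ X.basicOpen (r j) ≤ X.basicOpen (r i))
    (x : ∀ i, Γ(F, X.basicOpen (r i)))
    (hx : ∀ (i j : ι) (O : X.Opens) (h : O ≤ X.basicOpen (r i)) (h' : O ≤ X.basicOpen (r j)),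
      res F h' (x j) = resO X (h'.trans (X.basicOpen_le (r j))) (ρ i j) ^ n • res F h (x i)) :
    ∃ (K : ℕ) (t : ∀ i, Γ(F, U i)),
      (∀ i, res F (X.basicOpen_le (r i)) (t i) = resO X (X.basicOpen_le (r i)) (r i) ^ K • x i) ∧
      ∀ (i j : ι) (O : X.Opens) (h : O ≤ U i) (h' : O ≤ U j),
        res F h' (t j) = resO X h' (ρ i j) ^ (n + K * e) • res F h (t i) := by
  classical
  obtain ⟨K₀, t, ht⟩ := exists_uniform_ext F U hU r x
  have hle : ∀ i j, X.basicOpen (ρ i j) ≤ U i := fun i j => (hρ i j).le.trans inf_le_left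
  have hM : ∀ i j : ι, ∃ M : ℕ, resO X (X.basicOpen_le (ρ i j)) (r j) ^ M •
      (res F (X.basicOpen_le (ρ i j)) (t j) -
        resO X (X.basicOpen_le (ρ i j)) (ρ i j) ^ (n + K₀ * e) • res F (hle i j) (t i)) = 0 := by
    intro i j
    refine (QC70.isLocAt_of_isQuasicoherent F ((hU j).basicOpen (ρ i j))).eq_zero_of _ _ ?_
    let D := X.basicOpen (resO X (X.basicOpen_le (ρ i j)) (r j))
    have hD : D ≤ X.basicOpen (ρ i j) := X.basicOpen_le _
    have hDj : D ≤ X.basicOpen (r j) :=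
      (Scheme.basicOpen_res X (r j) (homOfLE (X.basicOpen_le (ρ i j))).op).le.trans inf_le_right
    have hDi : D ≤ X.basicOpen (r i) := (le_inf (hD.trans (hle i j)) hDj).trans (hbo i j)
    rw [QC70.res_sub, sub_eq_zero, QC70.res_res, QC70.res_pow_smul, QC70.res_res, QC70.resO_resO,
      ← QC70.res_res (X.basicOpen_le (r j)) hDj, ht j, ← QC70.res_res (X.basicOpen_le (r i)) hDi, ht i,
      QC70.res_pow_smul, QC70.res_pow_smul, QC70.resO_resO, QC70.resO_resO, hx i j D hDi hDj,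
      hr i j D (hDi.trans (X.basicOpen_le _)) (hDj.trans (X.basicOpen_le _)), smul_smul, smul_smul]
    congr 1
    ring
  choose M hM using hM
  let M₀ := Finset.univ.sup fun q : ι × ι => M q.1 q.2
  refine ⟨K₀ + M₀, fun i => r i ^ M₀ • t i, fun i => ?_, fun i j O h h' => ?_⟩
  · rw [QC70.res_pow_smul, ht i, smul_smul, ← pow_add, add_comm]
  have hO : O ≤ X.basicOpen (ρ i j) := (le_inf h h').trans (hρ i j).ge
  have h0 := congrArg (res F hO) (hM i j)
  rw [QC70.res_pow_smul, QC70.res_sub, QC70.res_res, QC70.res_pow_smul, QC70.res_res, QC70.resO_resO,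
    QC70.resO_resO, QC70.res_zero] at h0
  have h1 : resO X h' (r j) ^ M₀ • (res F h' (t j) - resO X h' (ρ i j) ^ (n + K₀ * e) • res F h (t i)) = 0 := by
    have hM₀ : M i j ≤ M₀ := Finset.le_sup (f := fun q : ι × ι => M q.1 q.2) (Finset.mem_univ (i, j))
    rw [← Nat.sub_add_cancel hM₀, pow_add, mul_smul, h0, smul_zero]
  rw [smul_sub, sub_eq_zero] at h1
  rw [QC70.res_pow_smul, QC70.res_pow_smul, h1, hr i j O h h', smul_smul, smul_smul]
  congr 1
  ring

theorem exists_affine_le {O : Y.Opens} {z : Y} (hz : z ∈ O) :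
    ∃ W : Y.Opens, IsAffineOpen W ∧ z ∈ W ∧ W ≤ O := by
  obtain ⟨_, ⟨W, hW, rfl⟩, hzW, hWO⟩ := Y.isBasis_affineOpens.exists_subset_of_mem_open hz O.2
  exact ⟨W, hW, hzW, hWO⟩

variable (p : P ⟶ Y)
  (chart : ∀ (U : Y.Opens) (hU : IsAffineOpen U), (((p ⁻¹ᵁ U : P.Opens) : Scheme.{u}) ≅ Proj (𝒮.deg U hU)))

/-- The ratio of the elements of two nested keys. -/
def ratio (k k' : Key 𝒮) (i : k'.W ≤ k.W) : Γ(P, dop p chart k') :=
  fr p chart k' 1 (degRes k.hW k'.hW i 1 ⟨k.g, k.hg⟩)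

theorem ratio_self (k : Key 𝒮) : ratio p chart k k le_rfl = 1 := by
  rw [ratio, degRes_self]
  exact fr_self p chart k

theorem ratio_restr_self (k : Key 𝒮) {W' : Y.Opens} (hW' : IsAffineOpen W') (i : W' ≤ k.W) :
    ratio p chart k (k.restr hW' i) i = 1 :=
  fr_self p chart (k.restr hW' i)

theorem ratio_eq_one {k k' : Key 𝒮} (i : k'.W ≤ k.W) (h : 𝒮.res k.hW k'.hW i k.g = k'.g) :
    ratio p chart k k' i = 1 :=
  (fr_congr p chart k' (b := ⟨k'.g, k'.hg⟩) h).trans (fr_self p chart k')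

theorem resO_ratio_one {k k' : Key 𝒮} {i : k'.W ≤ k.W} (h : ratio p chart k k' i = 1) {O : P.Opens}
    (hO : O ≤ dop p chart k') : resO P hO (ratio p chart k k' i) = 1 :=
  (congrArg (resO P hO) h).trans (map_one (P.presheaf.map (homOfLE hO).op).hom)

variable {p chart} (hP : RelProj.IsRelProj 𝒮 p chart) (F : P.Modules)

include hP in
theorem ratio_trans {k k' k'' : Key 𝒮} (i : k'.W ≤ k.W) (i' : k''.W ≤ k'.W) {O : P.Opens}
    (h' : O ≤ dop p chart k') (h'' : O ≤ dop p chart k'') :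
    resO P h'' (ratio p chart k k'' (i'.trans i)) =
      resO P h'' (ratio p chart k' k'' i') * resO P h' (ratio p chart k k' i) := by
  have e := fr_compat p chart hP i' (degRes k.hW k'.hW i 1 ⟨k.g, k.hg⟩) h' h''
  rw [degRes_degRes k.hW k'.hW k''.hW i i', pow_one] at e
  exact e

include hP in
theorem dop_inf (k k' : Key 𝒮) (i : k'.W ≤ k.W) :
    P.basicOpen (ratio p chart k k' i) = dop p chart k ⊓ dop p chart k' := by
  ext z
  constructor
  · intro hz
    have hz' := P.basicOpen_le (ratio p chart k k' i) hz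
    obtain ⟨y, hy, rfl⟩ := (mem_dop p chart).mp hz'
    exact ⟨(mem_dop_iff_of_le p chart hP k'.hW i y).mpr ((emb_mem_basicOpen_fr p chart).mp hz).2, hz'⟩
  · rintro ⟨hz, hz'⟩
    obtain ⟨y, hy, rfl⟩ := (mem_dop p chart).mp hz'
    exact (emb_mem_basicOpen_fr p chart).mpr ⟨hy, (mem_dop_iff_of_le p chart hP k'.hW i y).mp hz⟩

variable (p chart) in
/-- Families of sections on the opens `D₊(g)`. -/
abbrev Fam (V : Y.Opens) : Type u := ∀ k : Keys 𝒮 V, Γ(F, dop p chart k.1)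

/-- Compatibility in degree `n`. -/
def IsCompatDeg {V : Y.Opens} (n : ℕ) (w : Fam p chart F V) : Prop :=
  ∀ (k k' : Keys 𝒮 V) (i : k'.1.W ≤ k.1.W) (O : P.Opens) (h : O ≤ dop p chart k.1) (h' : O ≤ dop p chart k'.1),
    res F h' (w k') = resO P h' (ratio p chart k.1 k'.1 i) ^ n • res F h (w k)

theorem IsCompatDeg.res_restr {V : Y.Opens} {n : ℕ} {w : Fam p chart F V} (hw : IsCompatDeg F n w)
    (k : Keys 𝒮 V) {W' : Y.Opens} (hW' : IsAffineOpen W') (i : W' ≤ k.1.W) {O : P.Opens}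
    (h : O ≤ dop p chart k.1) (h' : O ≤ dop p chart (k.1.restr hW' i)) :
    res F h' (w ⟨k.1.restr hW' i, i.trans k.2⟩) = res F h (w k) := by
  refine (hw k ⟨k.1.restr hW' i, i.trans k.2⟩ i O h h').trans ?_
  rw [resO_ratio_one p chart (ratio_restr_self p chart k.1 hW' i), one_pow, one_smul]

include hP in
/-- A compatible family vanishes once it vanishes on keys covering. -/
theorem IsCompatDeg.eq_zero_of_cover {V : Y.Opens} {n : ℕ} {w : Fam p chart F V} (hw : IsCompatDeg F n w)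
    {ι : Type*} (k : ι → Keys 𝒮 V) (l : Keys 𝒮 V)
    (hcov : ∀ z ∈ dop p chart l.1, ∃ i, z ∈ dop p chart (k i).1) (h0 : ∀ i, w (k i) = 0) : w l = 0 := by
  refine QC70.section_ext F _ _ fun z hz => ?_
  obtain ⟨i, hi⟩ := hcov z hz
  obtain ⟨W₃, hW₃, hzW, hW₃le⟩ := exists_affine_le (O := l.1.W ⊓ (k i).1.W)
    ⟨dop_le p chart l.1 hz, dop_le p chart (k i).1 hi⟩
  let O : P.Opens := dop p chart l.1 ⊓ dop p chart (k i).1 ⊓ p ⁻¹ᵁ W₃
  have hl : O ≤ dop p chart l.1 := inf_le_left.trans inf_le_left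
  have hl3 : O ≤ dop p chart (l.1.restr hW₃ (hW₃le.trans inf_le_left)) := by
    rw [dop_restr p chart hP]; exact le_inf hl inf_le_right
  refine ⟨O, hl, ⟨⟨hz, hi⟩, hzW⟩, ?_⟩
  rw [QC70.res_zero, ← hw.res_restr F l hW₃ (hW₃le.trans inf_le_left) hl hl3]
  refine (hw (k i) ⟨_, _⟩ (hW₃le.trans inf_le_right) O (inf_le_left.trans inf_le_right) hl3).trans ?_
  rw [h0 i, QC70.res_zero, smul_zero]

include hP in
theorem IsCompatDeg.eq_of_cover {V : Y.Opens} {n : ℕ} {v w : Fam p chart F V} (hv : IsCompatDeg F n v)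
    (hw : IsCompatDeg F n w) {ι : Type*} (k : ι → Keys 𝒮 V) (l : Keys 𝒮 V)
    (hcov : ∀ z ∈ dop p chart l.1, ∃ i, z ∈ dop p chart (k i).1) (h : ∀ i, v (k i) = w (k i)) : v l = w l := by
  have hd : IsCompatDeg F n (v - w) := fun k k' i O h h' => by
    show res F h' (v k' - w k') = _ • res F h (v k - w k)
    rw [QC70.res_sub, QC70.res_sub, hv k k' i O h h', hw k k' i O h h', smul_sub]
  exact sub_eq_zero.mp (hd.eq_zero_of_cover hP F k l hcov fun i => sub_eq_zero.mpr (h i))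

include hP in
/-- Gluing of data given on keys covering `p⁻¹(V)`. -/
theorem exists_assemble {V : Y.Opens} (n : ℕ) {ι : Type u} (k : ι → Keys 𝒮 V)
    (x : ∀ i, Γ(F, dop p chart (k i).1))
    (hcov : ∀ z ∈ p ⁻¹ᵁ V, ∃ i, z ∈ dop p chart (k i).1)
    (hx : ∀ (l : Keys 𝒮 V) (i j : ι) (hi : l.1.W ≤ (k i).1.W) (hj : l.1.W ≤ (k j).1.W) (O : P.Opens)
      (hl : O ≤ dop p chart l.1) (hi' : O ≤ dop p chart (k i).1) (hj' : O ≤ dop p chart (k j).1),
      resO P hl (ratio p chart (k i).1 l.1 hi) ^ n • res F hi' (x i) =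
        resO P hl (ratio p chart (k j).1 l.1 hj) ^ n • res F hj' (x j)) :
    ∃ w : Fam p chart F V, IsCompatDeg F n w ∧ ∀ i, w (k i) = x i := by
  classical
  let J : Keys 𝒮 V → Type u := fun l => Σ i : ι, {W : Y.affineOpens // W.1 ≤ l.1.W ⊓ (k i).1.W}
  let lk : ∀ l : Keys 𝒮 V, J l → Key 𝒮 := fun l a => l.1.restr a.2.1.2 (a.2.2.trans inf_le_left)
  let U : ∀ l : Keys 𝒮 V, J l → P.Opens := fun l a =>
    dop p chart (lk l a) ⊓ dop p chart (k a.1).1
  have hU : ∀ l a, U l a ≤ dop p chart l.1 := fun l a => inf_le_left.trans (by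
    rw [dop_restr p chart hP]; exact inf_le_left)
  let y : ∀ (l : Keys 𝒮 V) (a : J l), Γ(F, U l a) := fun l a =>
    resO P (inf_le_left : U l a ≤ dop p chart (lk l a))
        (ratio p chart (k a.1).1 (lk l a) (a.2.2.trans inf_le_right)) ^ n •
      res F (inf_le_right : U l a ≤ dop p chart (k a.1).1) (x a.1)
  -- the value on a smaller key
  have hy : ∀ (l : Keys 𝒮 V) (a : J l) (W₃ : Y.Opens) (hW₃ : IsAffineOpen W₃) (h₃ : W₃ ≤ a.2.1.1) (O : P.Opens)
      (hO : O ≤ U l a) (hO₃ : O ≤ dop p chart (l.1.restr hW₃ (h₃.trans (a.2.2.trans inf_le_left)))),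
      res F hO (y l a) = resO P hO₃ (ratio p chart (k a.1).1 (l.1.restr hW₃ (h₃.trans (a.2.2.trans inf_le_left)))
        (h₃.trans (a.2.2.trans inf_le_right))) ^ n • res F (hO.trans inf_le_right) (x a.1) := by
    intro l a W₃ hW₃ h₃ O hO hO₃
    rw [QC70.res_pow_smul, QC70.resO_resO, QC70.res_res]
    congr 2
    have e := ratio_trans hP (k := (k a.1).1) (k' := lk l a)
      (k'' := l.1.restr hW₃ (h₃.trans (a.2.2.trans inf_le_left))) (a.2.2.trans inf_le_right) h₃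
      (hO.trans inf_le_left) hO₃
    refine (e.trans ?_).symm
    have h1 : ratio p chart (lk l a) (l.1.restr hW₃ (h₃.trans (a.2.2.trans inf_le_left))) h₃ = 1 := by
      exact ratio_eq_one p chart h₃ (res_res_apply 𝒮 _ _ _)
    rw [resO_ratio_one p chart h1, one_mul]
  have hagree : ∀ (l : Keys 𝒮 V) (a b : J l),
      res F (inf_le_left : U l a ⊓ U l b ≤ U l a) (y l a) = res F (inf_le_right : U l a ⊓ U l b ≤ U l b) (y l b) := by
    intro l a b
    refine QC70.section_ext F _ _ fun z hz => ?_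
    obtain ⟨W₃, hW₃, hzW, hW₃le⟩ := exists_affine_le (O := a.2.1.1 ⊓ b.2.1.1)
      ⟨dop_le p chart _ hz.1.1, dop_le p chart _ hz.2.1⟩
    let O : P.Opens := U l a ⊓ U l b ⊓ p ⁻¹ᵁ W₃
    have ha : O ≤ U l a := inf_le_left.trans inf_le_left
    have hb : O ≤ U l b := inf_le_left.trans inf_le_right
    have h3 : W₃ ≤ l.1.W := (hW₃le.trans inf_le_left).trans (a.2.2.trans inf_le_left)
    have hO₃ : O ≤ dop p chart (l.1.restr hW₃ h3) := by
      rw [dop_restr p chart hP]; exact le_inf (ha.trans (hU l a)) inf_le_right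
    refine ⟨O, inf_le_left, ⟨hz, hzW⟩, ?_⟩
    rw [QC70.res_res, QC70.res_res]
    refine (hy l a W₃ hW₃ (hW₃le.trans inf_le_left) O ha hO₃).trans
      (Eq.trans ?_ (hy l b W₃ hW₃ (hW₃le.trans inf_le_right) O hb hO₃).symm)
    exact hx ⟨l.1.restr hW₃ h3, h3.trans l.2⟩ a.1 b.1 _ _ O hO₃ _ _
  have hcovl : ∀ l : Keys 𝒮 V, dop p chart l.1 ≤ ⨆ a, U l a := by
    intro l z hz
    obtain ⟨i, hi⟩ := hcov z (p.preimage_mono l.2 (dop_le p chart l.1 hz))
    obtain ⟨W', hW', hzW, hW'le⟩ := exists_affine_le (O := l.1.W ⊓ (k i).1.W)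
      ⟨dop_le p chart l.1 hz, dop_le p chart (k i).1 hi⟩
    refine Opens.mem_iSup.mpr ⟨⟨i, ⟨⟨W', hW'⟩, hW'le⟩⟩, ?_, hi⟩
    simp only [lk, dop_restr p chart hP]
    exact ⟨hz, hzW⟩
  choose w hw using fun l : Keys 𝒮 V => QC70.exists_glue F (U l) (hU l) (hcovl l) (y l) (hagree l)
  have hspec : ∀ (l : Keys 𝒮 V) (i : ι) (W₃ : Y.Opens) (hW₃ : IsAffineOpen W₃) (h₃ : W₃ ≤ l.1.W)
      (h₃' : W₃ ≤ (k i).1.W) (O : P.Opens) (hO : O ≤ dop p chart l.1) (hOi : O ≤ dop p chart (k i).1)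
      (hO₃ : O ≤ dop p chart (l.1.restr hW₃ h₃)),
      res F hO (w l) = resO P hO₃ (ratio p chart (k i).1 (l.1.restr hW₃ h₃) h₃') ^ n • res F hOi (x i) := by
    intro l i W₃ hW₃ h₃ h₃' O hO hOi hO₃
    let a : J l := ⟨i, ⟨⟨W₃, hW₃⟩, le_inf h₃ h₃'⟩⟩
    have ha : O ≤ U l a := le_inf hO₃ hOi
    rw [← QC70.res_res (M := F) (hU l a) ha (w l), hw l a]
    exact hy l a W₃ hW₃ le_rfl O ha hO₃
  refine ⟨w, fun l l' i O h h' => ?_, fun i => ?_⟩
  · refine QC70.section_ext F _ _ fun z hz => ?_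
    obtain ⟨c, hc⟩ := hcov z (p.preimage_mono l.2 (dop_le p chart l.1 (h hz)))
    obtain ⟨W₃, hW₃, hzW, hW₃le⟩ := exists_affine_le (O := l'.1.W ⊓ (k c).1.W)
      ⟨dop_le p chart l'.1 (h' hz), dop_le p chart (k c).1 hc⟩
    have h3 : W₃ ≤ l'.1.W := hW₃le.trans inf_le_left
    let O' : P.Opens := O ⊓ dop p chart (k c).1 ⊓ p ⁻¹ᵁ W₃
    have hO' : O' ≤ O := inf_le_left.trans inf_le_left
    have hl'3 : O' ≤ dop p chart (l'.1.restr hW₃ h3) := by
      rw [dop_restr p chart hP]; exact le_inf (hO'.trans h') inf_le_right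
    have hl3 : O' ≤ dop p chart (l.1.restr hW₃ (h3.trans i)) := by
      rw [dop_restr p chart hP]; exact le_inf (hO'.trans h) inf_le_right
    refine ⟨O', hO', ⟨⟨hz, hc⟩, hzW⟩, ?_⟩
    rw [QC70.res_res, QC70.res_pow_smul, QC70.res_res, QC70.resO_resO,
      hspec l' c W₃ hW₃ h3 (hW₃le.trans inf_le_right) O' _ (inf_le_left.trans inf_le_right) hl'3,
      hspec l c W₃ hW₃ (h3.trans i) (hW₃le.trans inf_le_right) O' _ (inf_le_left.trans inf_le_right) hl3,
      smul_smul, ← mul_pow]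
    congr 2
    -- `r(k, l'₃) = r(l, l') r(k, l₃)`
    have e1 := ratio_trans hP (k := (k c).1) (k' := l.1.restr hW₃ (h3.trans i)) (k'' := l'.1.restr hW₃ h3)
      (hW₃le.trans inf_le_right) le_rfl hl3 hl'3
    have e2 := ratio_trans hP (k := l.1) (k' := l.1.restr hW₃ (h3.trans i)) (k'' := l'.1.restr hW₃ h3)
      (h3.trans i) le_rfl hl3 hl'3
    have e3 := ratio_trans hP (k := l.1) (k' := l'.1) (k'' := l'.1.restr hW₃ h3) i h3 (hO'.trans h') hl'3
    rw [resO_ratio_one p chart (ratio_restr_self p chart l.1 hW₃ (h3.trans i)), mul_one] at e2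
    rw [resO_ratio_one p chart (ratio_restr_self p chart l'.1 hW₃ h3), one_mul] at e3
    refine e1.trans ?_
    congr 1
    exact e2.symm.trans e3
  · refine QC70.section_ext F _ _ fun z hz => ⟨dop p chart (k i).1, le_rfl, hz, ?_⟩
    rw [QC70.res_self, QC70.res_self]
    have e := hspec (k i) i (k i).1.W (k i).1.hW le_rfl le_rfl (dop p chart (k i).1) le_rfl le_rfl (by
      rw [dop_restr p chart hP]; exact le_inf le_rfl (dop_le p chart (k i).1))
    rw [QC70.res_self, QC70.res_self] at e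
    refine e.trans ?_
    rw [resO_ratio_one p chart (ratio_restr_self p chart (k i).1 (k i).1.hW le_rfl), one_pow, one_smul]

/-- The key of a degree-one element. -/
abbrev mkKey {W : Y.Opens} (hW : IsAffineOpen W) (g : 𝒮.deg W hW 1) : Keys 𝒮 W :=
  ⟨⟨W, hW, g, g.2⟩, le_rfl⟩

theorem cover_of_gens {W : Y.Opens} (hW : IsAffineOpen W) {s : Finset (𝒮.deg W hW 1)}
    (hs : ∀ y : Proj (𝒮.deg W hW), ∃ g ∈ s, (g : 𝒮.presheaf.obj (op W)) ∉ y.asHomogeneousIdeal)
    {z : P} (hz : z ∈ p ⁻¹ᵁ W) : ∃ g : s, z ∈ dop p chart (mkKey hW g.1).1 := by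
  obtain ⟨y, rfl⟩ := exists_emb p chart W hW hz
  obtain ⟨g, hg, hgy⟩ := hs y
  exact ⟨⟨g, hg⟩, (emb_mem_dop p chart (k := (mkKey hW g).1)).mpr hgy⟩

include hP in
theorem fr_compat_self {W : Y.Opens} (hW : IsAffineOpen W) (g g' : 𝒮.deg W hW 1) {e : ℕ} (a : 𝒮.deg W hW e)
    {O : P.Opens} (h : O ≤ dop p chart (mkKey hW g).1) (h' : O ≤ dop p chart (mkKey hW g').1) :
    resO P h' (fr p chart (mkKey hW g').1 e a) =
      resO P h' (ratio p chart (mkKey hW g).1 (mkKey hW g').1 le_rfl) ^ e *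
        resO P h (fr p chart (mkKey hW g).1 e a) := by
  have e1 := fr_compat p chart hP (k := (mkKey hW g).1) (k' := (mkKey hW g').1) le_rfl a h h'
  rw [degRes_self hW a] at e1
  exact e1

theorem basicOpen_le_basicOpen_fr {W : Y.Opens} (hW : IsAffineOpen W) (g g' : 𝒮.deg W hW 1) {e : ℕ}
    (a : 𝒮.deg W hW e) :
    dop p chart (mkKey hW g).1 ⊓ P.basicOpen (fr p chart (mkKey hW g').1 e a) ≤
      P.basicOpen (fr p chart (mkKey hW g).1 e a) := by
  rintro z ⟨hz, hz'⟩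
  obtain ⟨y, hy, rfl⟩ := (mem_dop p chart).mp (P.basicOpen_le _ hz')
  exact (emb_mem_basicOpen_fr p chart (k := (mkKey hW g).1)).mpr
    ⟨(emb_mem_dop p chart (k := (mkKey hW g).1)).mp hz, ((emb_mem_basicOpen_fr p chart).mp hz').2⟩

include hP in
/-- Sections on the opens `D₊(g a)` compatible in degree `n` extend after multiplying by a power of `a`. -/
theorem exists_extend (hF : F.IsQuasicoherent) {W : Y.Opens} (hW : IsAffineOpen W)
    (s : Finset (𝒮.deg W hW 1))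
    (hs : ∀ y : Proj (𝒮.deg W hW), ∃ g ∈ s, (g : 𝒮.presheaf.obj (op W)) ∉ y.asHomogeneousIdeal)
    {e : ℕ} (a : 𝒮.deg W hW e) (n : ℕ)
    (x : ∀ g : s, Γ(F, P.basicOpen (fr p chart (mkKey hW g.1).1 e a)))
    (hx : ∀ (g g' : s) (O : P.Opens) (h : O ≤ P.basicOpen (fr p chart (mkKey hW g.1).1 e a))
      (h' : O ≤ P.basicOpen (fr p chart (mkKey hW g'.1).1 e a)),
      res F h' (x g') =
        resO P (h'.trans (P.basicOpen_le _)) (ratio p chart (mkKey hW g.1).1 (mkKey hW g'.1).1 le_rfl) ^ n •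
          res F h (x g)) :
    ∃ (K : ℕ) (w : Fam p chart F W), IsCompatDeg F (n + K * e) w ∧ ∀ g : s,
      res F (P.basicOpen_le (fr p chart (mkKey hW g.1).1 e a)) (w (mkKey hW g.1)) =
        resO P (P.basicOpen_le (fr p chart (mkKey hW g.1).1 e a)) (fr p chart (mkKey hW g.1).1 e a) ^ K • x g := by
  classical
  have := hF
  have h1 : ∀ g g' : s, P.basicOpen (ratio p chart (mkKey hW g.1).1 (mkKey hW g'.1).1 le_rfl) =
      dop p chart (mkKey hW g.1).1 ⊓ dop p chart (mkKey hW g'.1).1 := fun g g' => dop_inf hP (mkKey hW g.1).1 (mkKey hW g'.1).1 le_rfl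
  have H := exists_ext_compat F (fun g : s => dop p chart (mkKey hW g.1).1)
    (fun g => isAffineOpen_dop p chart (mkKey hW g.1).1) (fun g : s => fr p chart (mkKey hW g.1).1 e a)
    (fun g g' : s => ratio p chart (mkKey hW g.1).1 (mkKey hW g'.1).1 le_rfl) n e
    h1
    (fun g g' O h h' => fr_compat_self hP hW g.1 g'.1 a h h')
    (fun g g' => basicOpen_le_basicOpen_fr hW g.1 g'.1 a) x hx
  obtain ⟨K, t, ht, hpair⟩ := H
  have H2 := exists_assemble (V := W) (ι := s) hP F (n + K * e) (fun g : s => mkKey hW g.1)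
    t (fun z hz => cover_of_gens hW hs hz) fun l g g' hi hj O hl hg hg' => by
      rw [hpair g g' O hg hg', smul_smul, ← mul_pow]
      congr 2
      exact ratio_trans hP (k := (mkKey hW g.1).1) (k' := (mkKey hW g'.1).1) (k'' := l.1) le_rfl hj hg' hl
  obtain ⟨w, hw, hwk⟩ := H2
  exact ⟨K, w, hw, fun g =>
    (congrArg (res F (P.basicOpen_le (fr p chart (mkKey hW g.1).1 e a))) (hwk g)).trans (ht g)⟩

end Groth.Agent.EGAProj74.GammaRel
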