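import Groth.Agent.EGAProj74.GammaRel.Mod

/-!
A module on a relative Proj with coefficient maps from a graded module is the module attached to it.
-/

set_option autoImplicit false
set_option backward.isDefEq.respectTransparency.types false

universe u

open CategoryTheory AlgebraicGeometry TopologicalSpace Opposite
open scoped HomogeneousIdeal

noncomputable section

namespace Groth.Agent.EGAProj74.GammaRel

open QC70 (res resO)
open GrT (frac frac_eq_iff frac_congr frac_mem_tildeAt)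

theorem resO_mul {X : Scheme.{u}} {U V : X.Opens} (h : V ≤ U) (a b : Γ(X, U)) :
    resO X h (a * b) = resO X h a * resO X h b :=
  map_mul (X.presheaf.map (homOfLE h).op).hom a b

variable {Y P : Scheme.{u}} {𝒮 : RelProj.QCGrAlg Y} (p : P ⟶ Y)
  (chart : ∀ (U : Y.Opens) (hU : IsAffineOpen U), (((p ⁻¹ᵁ U : P.Opens) : Scheme.{u}) ≅ Proj (𝒮.deg U hU)))

/-- Coefficient maps from a graded module to the sections of a module on the relative Proj. -/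
structure CoefData (F : P.Modules) (ℳ : RelProj.GrModule 𝒮) where
  /-- `m / g ^ d` -/
  coef : ∀ (k : Key 𝒮) (d : ℕ), ℳ.deg k.W k.hW d →+ Γ(F, dop p chart k)
  coef_smul : ∀ (k : Key 𝒮) (e d n : ℕ) (a : 𝒮.deg k.W k.hW e) (m : ℳ.deg k.W k.hW d),
    n = e + d → ∀ (h : (a : 𝒮.presheaf.obj (op k.W)) • (m : ℳ.mod.val.obj (op k.W)) ∈ ℳ.deg k.W k.hW n),
      coef k n ⟨(a : 𝒮.presheaf.obj (op k.W)) • (m : ℳ.mod.val.obj (op k.W)), h⟩ = fr p chart k e a • coef k d m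
  coef_change : ∀ (W : Y.Opens) (hW : IsAffineOpen W) (g g' : 𝒮.deg W hW 1) (d : ℕ) (m : ℳ.deg W hW d)
    (O : P.Opens) (h : O ≤ dop p chart (mkKey hW g).1) (h' : O ≤ dop p chart (mkKey hW g').1),
    res F h' (coef (mkKey hW g').1 d m) =
      resO P h' (ratio p chart (mkKey hW g).1 (mkKey hW g').1 le_rfl) ^ d • res F h (coef (mkKey hW g).1 d m)
  coef_restr : ∀ (k : Key 𝒮) (W' : Y.Opens) (hW' : IsAffineOpen W') (i : W' ≤ k.W) (d : ℕ)
    (m : ℳ.deg k.W k.hW d) (O : P.Opens) (h : O ≤ dop p chart k) (h' : O ≤ dop p chart (k.restr hW' i)),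
    res F h' (coef (k.restr hW' i) d ⟨ℳ.res k.hW hW' i m, ℳ.res_mem k.hW hW' i d m m.2⟩) = res F h (coef k d m)
  faithful : ∀ (W : Y.Opens) (hW : IsAffineOpen W) (d : ℕ) (m : ℳ.deg W hW d),
    (∀ g : 𝒮.deg W hW 1, coef (mkKey hW g).1 d m = 0) → (m : ℳ.mod.val.obj (op W)) = 0

variable {p chart} {F : P.Modules} {ℳ : RelProj.GrModule 𝒮} (Φ : CoefData p chart F ℳ)

namespace CoefData

set_option maxHeartbeats 1200000

/-- `σ` takes the value `q` at `y`. -/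
def Rep {W : Y.Opens} (hW : IsAffineOpen W) (y : Proj (𝒮.deg W hW)) {O : P.Opens} (σ : Γ(F, O))
    (q : GrMod.LocMod (𝒮.deg W hW) (M := ℳ.mod.val.obj (op W)) y) : Prop :=
  ∃ (d : ℕ) (m : ℳ.deg W hW d) (f : 𝒮.deg W hW d) (hf : (f : 𝒮.presheaf.obj (op W)) ∉ y.asHomogeneousIdeal)
    (g : 𝒮.deg W hW 1) (_ : (g : 𝒮.presheaf.obj (op W)) ∉ y.asHomogeneousIdeal)
    (N : P.Opens) (hN : N ≤ dop p chart (mkKey hW g).1) (hNO : N ≤ O),
    (RelProj.emb p chart W hW).base y ∈ N ∧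
      resO P hN (fr p chart (mkKey hW g).1 d f) • res F hNO σ = res F hN (Φ.coef (mkKey hW g).1 d m) ∧
      q = frac y (m : ℳ.mod.val.obj (op W)) (f : 𝒮.presheaf.obj (op W)) hf

variable (hP : RelProj.IsRelProj 𝒮 p chart)

theorem coef_congr {W : Y.Opens} {hW : IsAffineOpen W} (k : Keys 𝒮 W) {d : ℕ} {m m' : ℳ.deg k.1.W k.1.hW d}
    (h : (m : ℳ.mod.val.obj (op k.1.W)) = m') : Φ.coef k.1 d m = Φ.coef k.1 d m' := by
  rw [Subtype.ext h]

include hP in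
theorem rep_change {W : Y.Opens} {hW : IsAffineOpen W} {d : ℕ} {m : ℳ.deg W hW d} {f : 𝒮.deg W hW d}
    {g g' : 𝒮.deg W hW 1} {O N : P.Opens} {σ : Γ(F, O)} {hN : N ≤ dop p chart (mkKey hW g).1} {hNO : N ≤ O}
    (h : resO P hN (fr p chart (mkKey hW g).1 d f) • res F hNO σ = res F hN (Φ.coef (mkKey hW g).1 d m))
    {N' : P.Opens} (i : N' ≤ N) (hN' : N' ≤ dop p chart (mkKey hW g').1) :
    resO P hN' (fr p chart (mkKey hW g').1 d f) • res F (i.trans hNO) σ =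
      res F hN' (Φ.coef (mkKey hW g').1 d m) := by
  have h' := congrArg (res F i) h
  rw [QC70.res_smul, QC70.resO_resO, QC70.res_res, QC70.res_res] at h'
  rw [fr_compat_self hP hW g g' f (i.trans hN) hN', Φ.coef_change W hW g g' d m N' (i.trans hN) hN', mul_smul, h']

theorem rep_zero {W : Y.Opens} {hW : IsAffineOpen W}
    (hG : ∀ y : Proj (𝒮.deg W hW), ∃ g : 𝒮.deg W hW 1, (g : 𝒮.presheaf.obj (op W)) ∉ y.asHomogeneousIdeal)
    (y : Proj (𝒮.deg W hW)) {O : P.Opens} (hy : (RelProj.emb p chart W hW).base y ∈ O) :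
    Φ.Rep hW y (0 : Γ(F, O)) 0 := by
  obtain ⟨g, hg⟩ := hG y
  refine ⟨0, 0, ⟨1, SetLike.one_mem_graded _⟩, (Ideal.ne_top_iff_one _).mp y.isPrime.ne_top, g, hg,
    O ⊓ dop p chart (mkKey hW g).1, inf_le_right, inf_le_left, ⟨hy, (emb_mem_dop p chart).mpr hg⟩, ?_, ?_⟩
  · rw [map_zero, QC70.res_zero, QC70.res_zero, smul_zero]
  · exact (LocalizedModule.zero_mk _).symm

include hP in
theorem rep_add {W : Y.Opens} {hW : IsAffineOpen W} {y : Proj (𝒮.deg W hW)} {O : P.Opens} {σ τ : Γ(F, O)}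
    {q q' : GrMod.LocMod (𝒮.deg W hW) (M := ℳ.mod.val.obj (op W)) y}
    (h : Φ.Rep hW y σ q) (h' : Φ.Rep hW y τ q') : Φ.Rep hW y (σ + τ) (q + q') := by
  obtain ⟨d, m, f, hf, g, hg, N, hN, hNO, hyN, e, rfl⟩ := h
  obtain ⟨d', m', f', hf', g', hg', N', hN', hNO', hyN', e', rfl⟩ := h'
  have hm1 : (f' : 𝒮.presheaf.obj (op W)) • (m : ℳ.mod.val.obj (op W)) ∈ ℳ.deg W hW (d + d') :=
    Nat.add_comm d' d ▸ GrT.gsmul_mem (𝒮.deg W hW) (ℳ.deg W hW) f'.2 m.2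
  have hm2 : (f : 𝒮.presheaf.obj (op W)) • (m' : ℳ.mod.val.obj (op W)) ∈ ℳ.deg W hW (d + d') :=
    GrT.gsmul_mem (𝒮.deg W hW) (ℳ.deg W hW) f.2 m'.2
  refine ⟨d + d', ⟨_, add_mem hm1 hm2⟩, ⟨(f : 𝒮.presheaf.obj (op W)) * f', SetLike.mul_mem_graded f.2 f'.2⟩,
    GrT.mul_notMem hf hf', g, hg, N ⊓ N', inf_le_left.trans hN, inf_le_left.trans hNO, ⟨hyN, hyN'⟩, ?_, ?_⟩
  · have e1 := Φ.rep_change hP e (inf_le_left : N ⊓ N' ≤ N) (inf_le_left.trans hN)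
    have e2 := Φ.rep_change hP e' (inf_le_right : N ⊓ N' ≤ N') (inf_le_left.trans hN)
    rw [show (⟨_, add_mem hm1 hm2⟩ : ℳ.deg W hW (d + d')) = ⟨_, hm1⟩ + ⟨_, hm2⟩ from rfl, map_add,
      Φ.coef_smul (mkKey hW g).1 d' d (d + d') f' m (Nat.add_comm d d') hm1,
      Φ.coef_smul (mkKey hW g).1 d d' (d + d') f m' rfl hm2,
      fr_mul p chart (mkKey hW g).1 f f', QC70.res_add, QC70.res_add, QC70.res_smul, QC70.res_smul, ← e1, ← e2,
      smul_add, resO_mul, mul_smul, mul_smul]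
    congr 1
    rw [smul_smul, smul_smul, mul_comm]
  · rw [frac, frac, frac, LocalizedModule.mk_add_mk]
    rfl

theorem exists_local_value {A σ : Type u} [CommRing A] [SetLike σ A] [AddSubgroupClass σ A] {𝒜 : ℕ → σ}
    [GradedRing 𝒜] {U : (Proj 𝒜).Opens} (r : Γ(Proj 𝒜, U)) (y : U) :
    ∃ (V : (Proj 𝒜).Opens) (hV : V ≤ U) (_ : y.1 ∈ V) (i : ℕ) (a b : 𝒜 i)
      (hb : ∀ z : V, (b : A) ∉ z.1.asHomogeneousIdeal),
      ∀ z : V, (r.1 ⟨z.1, hV z.2⟩).val = Localization.mk (a : A) ⟨(b : A), hb z⟩ := by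
  obtain ⟨V, hyV, iV, i, a, b, hb, h⟩ := r.2 y
  exact ⟨V, iV.le, hyV, i, a, b, hb, fun z => (congrArg HomogeneousLocalization.val (h z)).trans
    (HomogeneousLocalization.val_mk _)⟩

theorem fr_smul_eq {W : Y.Opens} {hW : IsAffineOpen W} {O : P.Opens} (r : Γ(P, O)) {i : ℕ} (a b : 𝒮.deg W hW i)
    (g : 𝒮.deg W hW 1) {N : P.Opens} (hN : N ≤ dop p chart (mkKey hW g).1) (hNO : N ≤ O)
    (h : ∀ (z : Proj (𝒮.deg W hW)) (hz : (RelProj.emb p chart W hW).base z ∈ N),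
      ∃ hb : (b : 𝒮.presheaf.obj (op W)) ∉ z.asHomogeneousIdeal,
        (((RelProj.emb p chart W hW).app O r).1 ⟨z, hNO hz⟩).val =
          Localization.mk (a : 𝒮.presheaf.obj (op W)) ⟨(b : 𝒮.presheaf.obj (op W)), hb⟩) :
    resO P hN (fr p chart (mkKey hW g).1 i b) * resO P hNO r = resO P hN (fr p chart (mkKey hW g).1 i a) := by
  refine ext_pval p chart W hW (hN.trans (dop_le p chart _)) fun z hz => ?_
  have hg := (emb_mem_dop p chart (k := (mkKey hW g).1)).mp (hN hz)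
  rw [map_mul]
  show (((RelProj.emb p chart W hW).app N (resO P hN (fr p chart (mkKey hW g).1 i b))).1 ⟨z, hz⟩ *
    ((RelProj.emb p chart W hW).app N (resO P hNO r)).1 ⟨z, hz⟩ : GrTwist.A0 (𝒮.deg W hW) z).val = _
  rw [HomogeneousLocalization.val_mul, pval_fr p chart (mkKey hW g).1 b hN z hz hg]
  obtain ⟨hb, e⟩ := h z hz
  have e' : (((RelProj.emb p chart W hW).app N (resO P hNO r)).1 ⟨z, hz⟩).val =
      Localization.mk (a : 𝒮.presheaf.obj (op W)) ⟨(b : 𝒮.presheaf.obj (op W)), hb⟩ :=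
    (congrArg (fun q => (q.1 ⟨z, hz⟩).val)
      congr($((RelProj.emb p chart W hW).naturality (homOfLE hNO).op).hom r)).trans e
  refine Eq.trans ?_ (pval_fr p chart (mkKey hW g).1 a hN z hz hg).symm
  rw [e', Localization.mk_mul, Localization.mk_eq_mk_iff, Localization.r_iff_exists]
  refine ⟨1, ?_⟩
  simp only [OneMemClass.coe_one, one_mul, Submonoid.coe_mul]
  ring

include hP in
theorem rep_smul {W : Y.Opens} {hW : IsAffineOpen W} {y : Proj (𝒮.deg W hW)} {O : P.Opens} {σ : Γ(F, O)}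
    {q : GrMod.LocMod (𝒮.deg W hW) (M := ℳ.mod.val.obj (op W)) y} (r : Γ(P, O))
    (hy : (RelProj.emb p chart W hW).base y ∈ O) (h : Φ.Rep hW y σ q) :
    Φ.Rep hW y (r • σ) (((RelProj.emb p chart W hW).app O r).1 ⟨y, hy⟩ • q) := by
  obtain ⟨d, m, f, hf, g, hg, N, hN, hNO, hyN, e, rfl⟩ := h
  obtain ⟨V, hV, hyV, i, a, b, hb, hr⟩ := exists_local_value ((RelProj.emb p chart W hW).app O r) ⟨y, hy⟩
  let N' : P.Opens := N ⊓ RelProj.emb p chart W hW ''ᵁ V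
  have hN' : N' ≤ N := inf_le_left
  have hV' : ∀ {z : Proj (𝒮.deg W hW)}, (RelProj.emb p chart W hW).base z ∈ N' → z ∈ V := fun {z} hz => by
    obtain ⟨z', hz', e⟩ := hz.2
    rwa [← (RelProj.emb p chart W hW).isOpenEmbedding.injective e]
  have ha : (a : 𝒮.presheaf.obj (op W)) • (m : ℳ.mod.val.obj (op W)) ∈ ℳ.deg W hW (i + d) :=
    GrT.gsmul_mem (𝒮.deg W hW) (ℳ.deg W hW) a.2 m.2
  refine ⟨i + d, ⟨_, ha⟩, ⟨(b : 𝒮.presheaf.obj (op W)) * f, SetLike.mul_mem_graded b.2 f.2⟩,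
    GrT.mul_notMem (hb ⟨y, hyV⟩) hf, g, hg, N', hN'.trans hN, hN'.trans hNO, ⟨hyN, ⟨y, hyV, rfl⟩⟩, ?_, ?_⟩
  · have e1 := Φ.rep_change hP e hN' (hN'.trans hN)
    have e2 := fr_smul_eq r a b g (hN'.trans hN) (hN'.trans hNO) fun z hz => ⟨hb ⟨z, hV' hz⟩, hr ⟨z, hV' hz⟩⟩
    rw [Φ.coef_smul (mkKey hW g).1 i d (i + d) a m rfl ha, fr_mul p chart (mkKey hW g).1 b f, QC70.res_smul,
      QC70.res_smul, ← e1, ← e2, resO_mul, smul_smul, smul_smul]
    congr 1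
    ring
  · rw [GrMod.a0_smul_def, hr ⟨y, hyV⟩]
    exact LocalizedModule.mk_smul_mk _ _ _ _

theorem rep_res {W : Y.Opens} {hW : IsAffineOpen W} {y : Proj (𝒮.deg W hW)} {O O' : P.Opens} (i : O' ≤ O)
    {σ : Γ(F, O)} {q : GrMod.LocMod (𝒮.deg W hW) (M := ℳ.mod.val.obj (op W)) y}
    (hy : (RelProj.emb p chart W hW).base y ∈ O') (h : Φ.Rep hW y σ q) : Φ.Rep hW y (res F i σ) q := by
  obtain ⟨d, m, f, hf, g, hg, N, hN, hNO, hyN, e, rfl⟩ := h
  refine ⟨d, m, f, hf, g, hg, N ⊓ O', inf_le_left.trans hN, inf_le_right, ⟨hyN, hy⟩, ?_, rfl⟩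
  have h' := congrArg (res F (inf_le_left : N ⊓ O' ≤ N)) e
  rw [QC70.res_smul, QC70.resO_resO, QC70.res_res, QC70.res_res] at h'
  rwa [QC70.res_res]

theorem rep_of_res {W : Y.Opens} {hW : IsAffineOpen W} {y : Proj (𝒮.deg W hW)} {O O' : P.Opens} (i : O' ≤ O)
    {σ : Γ(F, O)} {q : GrMod.LocMod (𝒮.deg W hW) (M := ℳ.mod.val.obj (op W)) y}
    (h : Φ.Rep hW y (res F i σ) q) : Φ.Rep hW y σ q := by
  obtain ⟨d, m, f, hf, g, hg, N, hN, hNO, hyN, e, rfl⟩ := h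
  rw [QC70.res_res] at e
  exact ⟨d, m, f, hf, g, hg, N, hN, hNO.trans i, hyN, e, rfl⟩


theorem exists_gen_at (hG : HasGens p chart) {W : Y.Opens} (hW : IsAffineOpen W) (y : Proj (𝒮.deg W hW)) :
    ∃ g : 𝒮.deg W hW 1, (g : 𝒮.presheaf.obj (op W)) ∉ y.asHomogeneousIdeal := by
  obtain ⟨s, hs⟩ := hG W hW
  obtain ⟨g, hg⟩ := hs _ (emb_mem_preimage p chart W hW y)
  exact ⟨g.1, (emb_mem_dop p chart (k := (mkKey hW g.1).1)).mp hg⟩

/-- A homogeneous element killed near `y` on the chart is killed by an element outside `y`. -/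
theorem exists_notMem_smul_eq_zero (hP : RelProj.IsRelProj 𝒮 p chart) (hG : HasGens p chart)
    (hF : F.IsQuasicoherent) {W : Y.Opens} {hW : IsAffineOpen W} {y : Proj (𝒮.deg W hW)} {n : ℕ}
    (z : ℳ.deg W hW n) {g : 𝒮.deg W hW 1} (hg : (g : 𝒮.presheaf.obj (op W)) ∉ y.asHomogeneousIdeal)
    {N : P.Opens} (hN : N ≤ dop p chart (mkKey hW g).1) (hy : (RelProj.emb p chart W hW).base y ∈ N)
    (h0 : res F hN (Φ.coef (mkKey hW g).1 n z) = 0) :
    ∃ t : 𝒮.presheaf.obj (op W), t ∉ y.asHomogeneousIdeal ∧ t • (z : ℳ.mod.val.obj (op W)) = 0 := by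
  classical
  have := hF
  obtain ⟨e, c₀, -, hc₀, hyc, hcN⟩ := GrT.exists_basicOpen_le (𝒮.deg W hW)
    (U := RelProj.emb p chart W hW ⁻¹ᵁ N) (x := y) hy
  let c : 𝒮.deg W hW (1 + e) := ⟨(g : 𝒮.presheaf.obj (op W)) * c₀, SetLike.mul_mem_graded g.2 hc₀⟩
  obtain ⟨s, hs⟩ := hG W hW
  have hk : ∀ g' : s, ∃ K : ℕ, fr p chart (mkKey hW g'.1).1 (1 + e) c ^ K • Φ.coef (mkKey hW g'.1).1 n z = 0 := by
    intro g'
    refine (QC70.isLocAt_of_isQuasicoherent F (isAffineOpen_dop p chart _)).eq_zero_of _ _ ?_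
    have hD : P.basicOpen (fr p chart (mkKey hW g'.1).1 (1 + e) c) ≤ N := fun x hx => by
      obtain ⟨y', -, rfl⟩ := (mem_dop p chart).mp (P.basicOpen_le _ hx)
      have h2 := ((emb_mem_basicOpen_fr p chart).mp hx).2
      exact hcN (show y' ∈ ProjectiveSpectrum.basicOpen _ c₀ from fun h => h2 (Ideal.mul_mem_left _ _ h))
    have hDg : P.basicOpen (fr p chart (mkKey hW g'.1).1 (1 + e) c) ≤ dop p chart (mkKey hW g).1 := hD.trans hN
    have h00 : res F hDg (Φ.coef (mkKey hW g).1 n z) = 0 :=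
      ((QC70.res_res hN hD _).symm.trans (congrArg (res F hD) h0)).trans (QC70.res_zero hD)
    refine (Φ.coef_change W hW g g'.1 n z _ hDg (P.basicOpen_le _)).trans ?_
    exact (congrArg (resO P (P.basicOpen_le _) (ratio p chart (mkKey hW g).1 (mkKey hW g'.1).1 le_rfl) ^ n • ·) h00).trans
      (smul_zero _)
  choose K hK using hk
  let K₀ := Finset.univ.sup K
  refine ⟨(c : 𝒮.presheaf.obj (op W)) ^ K₀, GrT.pow_notMem (GrT.mul_notMem hg hyc) K₀, ?_⟩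
  have hpow : (c : 𝒮.presheaf.obj (op W)) ^ K₀ ∈ 𝒮.deg W hW (K₀ * (1 + e)) := by
    simpa using SetLike.pow_mem_graded K₀ c.2
  have hmem : (c : 𝒮.presheaf.obj (op W)) ^ K₀ • (z : ℳ.mod.val.obj (op W)) ∈ ℳ.deg W hW (K₀ * (1 + e) + n) :=
    GrT.gsmul_mem (𝒮.deg W hW) (ℳ.deg W hW) hpow z.2
  have h1 : ∀ g' : s, Φ.coef (mkKey hW g'.1).1 (K₀ * (1 + e) + n) ⟨_, hmem⟩ = 0 := fun g' => by
    rw [Φ.coef_smul (mkKey hW g'.1).1 (K₀ * (1 + e)) n _ ⟨_, hpow⟩ z rfl hmem,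
      fr_pow p chart (mkKey hW g'.1).1 c K₀ hpow,
      ← Nat.sub_add_cancel (show K g' ≤ K₀ from Finset.le_sup (f := K) (Finset.mem_univ g')), pow_add, mul_smul,
      hK g', smul_zero]
  refine Φ.faithful W hW _ ⟨_, hmem⟩ fun g₁ => ?_
  refine QC70.section_ext F _ _ fun x hx => ?_
  obtain ⟨g', hg'⟩ := hs x (dop_le p chart _ hx)
  refine ⟨dop p chart (mkKey hW g₁).1 ⊓ dop p chart (mkKey hW g'.1).1, inf_le_left, ⟨hx, hg'⟩, ?_⟩
  rw [QC70.res_zero, Φ.coef_change W hW g'.1 g₁ _ ⟨_, hmem⟩ _ inf_le_right inf_le_left, h1 g', QC70.res_zero,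
    smul_zero]

theorem rep_unique (hP : RelProj.IsRelProj 𝒮 p chart) (hG : HasGens p chart) (hF : F.IsQuasicoherent)
    {W : Y.Opens} {hW : IsAffineOpen W} {y : Proj (𝒮.deg W hW)} {O : P.Opens} {σ : Γ(F, O)}
    {q q' : GrMod.LocMod (𝒮.deg W hW) (M := ℳ.mod.val.obj (op W)) y}
    (h : Φ.Rep hW y σ q) (h' : Φ.Rep hW y σ q') : q = q' := by
  obtain ⟨d, m, f, hf, g, hg, N, hN, hNO, hyN, e, rfl⟩ := h
  obtain ⟨d', m', f', hf', g', hg', N', hN', hNO', hyN', e', rfl⟩ := h'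
  have hm1 : (f' : 𝒮.presheaf.obj (op W)) • (m : ℳ.mod.val.obj (op W)) ∈ ℳ.deg W hW (d + d') :=
    Nat.add_comm d' d ▸ GrT.gsmul_mem (𝒮.deg W hW) (ℳ.deg W hW) f'.2 m.2
  have hm2 : (f : 𝒮.presheaf.obj (op W)) • (m' : ℳ.mod.val.obj (op W)) ∈ ℳ.deg W hW (d + d') :=
    GrT.gsmul_mem (𝒮.deg W hW) (ℳ.deg W hW) f.2 m'.2
  have e1 := Φ.rep_change hP e (inf_le_left : N ⊓ N' ≤ N) (inf_le_left.trans hN)
  have e2 := Φ.rep_change hP e' (inf_le_right : N ⊓ N' ≤ N') (inf_le_left.trans hN)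
  have h0 : res F (inf_le_left.trans hN : N ⊓ N' ≤ _)
      (Φ.coef (mkKey hW g).1 (d + d') (⟨_, hm1⟩ - ⟨_, hm2⟩ : ℳ.deg W hW (d + d'))) = 0 := by
    rw [map_sub, Φ.coef_smul (mkKey hW g).1 d' d (d + d') f' m (Nat.add_comm d d') hm1,
      Φ.coef_smul (mkKey hW g).1 d d' (d + d') f m' rfl hm2, QC70.res_sub, QC70.res_smul, QC70.res_smul,
      ← e1, ← e2, smul_smul, smul_smul, mul_comm, sub_self]
  obtain ⟨t, ht, htz⟩ := Φ.exists_notMem_smul_eq_zero hP hG hF _ hg (inf_le_left.trans hN) ⟨hyN, hyN'⟩ h0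
  exact frac_eq_iff.mpr ⟨t, ht, htz⟩

section lam

variable (hG : HasGens p chart) (hF : F.IsQuasicoherent)
  (hfull : ∀ (W : Y.Opens) (hW : IsAffineOpen W) (y : Proj (𝒮.deg W hW)) (O : P.Opens) (σ : Γ(F, O)),
    (RelProj.emb p chart W hW).base y ∈ O → ∃ q, Φ.Rep hW y σ q)

/-- The value of a section at a point. -/
def value {W : Y.Opens} (hW : IsAffineOpen W) {O : P.Opens} (σ : Γ(F, O))
    (y : (RelProj.emb p chart W hW ⁻¹ᵁ O : (Proj (𝒮.deg W hW)).Opens)) :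
    GrMod.LocMod (𝒮.deg W hW) (M := ℳ.mod.val.obj (op W)) y.1 :=
  (hfull W hW y.1 O σ y.2).choose

theorem rep_value {W : Y.Opens} (hW : IsAffineOpen W) {O : P.Opens} (σ : Γ(F, O))
    (y : (RelProj.emb p chart W hW ⁻¹ᵁ O : (Proj (𝒮.deg W hW)).Opens)) : Φ.Rep hW y.1 σ (Φ.value hfull hW σ y) :=
  (hfull W hW y.1 O σ y.2).choose_spec

include hP hG hF in
theorem value_eq {W : Y.Opens} {hW : IsAffineOpen W} {O : P.Opens} {σ : Γ(F, O)}
    {y : (RelProj.emb p chart W hW ⁻¹ᵁ O : (Proj (𝒮.deg W hW)).Opens)} {q}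
    (h : Φ.Rep hW y.1 σ q) : Φ.value hfull hW σ y = q :=
  Φ.rep_unique hP hG hF (Φ.rep_value hfull hW σ y) h

theorem value_mem {W : Y.Opens} (hW : IsAffineOpen W) {O : P.Opens} (σ : Γ(F, O))
    (y : (RelProj.emb p chart W hW ⁻¹ᵁ O : (Proj (𝒮.deg W hW)).Opens)) :
    Φ.value hfull hW σ y ∈ GrMod.tildeAt (𝒮.deg W hW) (ℳ.deg W hW) 0 y.1 := by
  obtain ⟨d, m, f, hf, g, hg, N, hN, hNO, hyN, e, hq⟩ := Φ.rep_value hfull hW σ y
  rw [hq]
  exact frac_mem_tildeAt y.1 m.2 f.2 hf (by simp)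

/-- The section of the tilde attached to a section. -/
def lamFun {W : Y.Opens} (hW : IsAffineOpen W) (O : P.Opens) (σ : Γ(F, O)) :
    GrMod.sect (𝒮.deg W hW) (ℳ.deg W hW) 0 (op (RelProj.emb p chart W hW ⁻¹ᵁ O)) :=
  ⟨fun y => ⟨Φ.value hfull hW σ y, Φ.value_mem hfull hW σ y⟩, fun y => by
    obtain ⟨d, m, f, hf, g, hg, N, hN, hNO, hyN, e, hq⟩ := Φ.rep_value hfull hW σ y
    refine ⟨RelProj.emb p chart W hW ⁻¹ᵁ N ⊓ ProjectiveSpectrum.basicOpen (𝒮.deg W hW) (f : 𝒮.presheaf.obj (op W)),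
      ⟨hyN, hf⟩, homOfLE (inf_le_left.trans ((RelProj.emb p chart W hW).preimage_mono hNO)), d, d, m, f,
      fun z => z.2.2, Or.inl (by simp), fun z => ?_⟩
    exact Φ.value_eq hP hG hF hfull ⟨d, m, f, z.2.2, g, (emb_mem_dop p chart).mp (hN z.2.1), N, hN, hNO, z.2.1, e, rfl⟩⟩

/-- The identification on the chart over `W`. -/
def lam {W : Y.Opens} (hW : IsAffineOpen W) :
    F ⟶ (Scheme.Modules.pushforward (RelProj.emb p chart W hW)).obj (GrMod.tilde (𝒮.deg W hW) (ℳ.deg W hW) 0) :=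
  ⟨PresheafOfModules.homMk
    { app := fun O => AddCommGrpCat.ofHom
        (AddMonoidHom.mk' (fun σ => Φ.lamFun hP hG hF hfull hW O.unop σ) fun σ τ => GrT.sect_ext fun y =>
          Φ.value_eq hP hG hF hfull
            (Φ.rep_add hP (Φ.rep_value hfull hW σ y) (Φ.rep_value hfull hW τ y)))
      naturality := fun O O' i => by
        ext σ
        refine GrT.sect_ext fun y => ?_
        exact Φ.value_eq hP hG hF hfull
          (Φ.rep_res i.unop.le y.2 (Φ.rep_value hfull hW σ ⟨y.1, i.unop.le y.2⟩)) }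
    fun O r σ => GrT.sect_ext fun y => by
      refine (Φ.value_eq hP hG hF hfull (Φ.rep_smul hP r y.2 (Φ.rep_value hfull hW σ y))).trans ?_
      exact (GrMod.coe_smul_val 0 y.1 _ ⟨Φ.value hfull hW σ y, Φ.value_mem hfull hW σ y⟩).symm⟩

theorem val_lam {W : Y.Opens} (hW : IsAffineOpen W) {O : P.Opens} (σ : Γ(F, O))
    (y : (RelProj.emb p chart W hW ⁻¹ᵁ O : (Proj (𝒮.deg W hW)).Opens)) :
    GrMod.val (V := RelProj.emb p chart W hW ⁻¹ᵁ O) ((Φ.lam hP hG hF hfull hW).app O σ) y =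
      Φ.value hfull hW σ y := rfl

theorem exists_component_notMem {A σ : Type u} [CommRing A] [SetLike σ A] [AddSubgroupClass σ A] {𝒜 : ℕ → σ}
    [GradedRing 𝒜] {M τ : Type u} [AddCommGroup M] [Module A M] [SetLike τ M] [AddSubgroupClass τ M] {ℳ : ℕ → τ}
    [SetLike.GradedSMul 𝒜 ℳ] [DirectSum.Decomposition ℳ] {x : ProjectiveSpectrum 𝒜} {a : A} {d : ℕ} {m : M}
    (hm : m ∈ ℳ d) (ha : a ∉ x.asHomogeneousIdeal) (h : a • m = 0) :
    ∃ (e : ℕ) (b : A), b ∈ 𝒜 e ∧ b ∉ x.asHomogeneousIdeal ∧ b • m = 0 := by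
  classical
  by_contra H
  push Not at H
  refine ha ?_
  rw [← DirectSum.sum_support_decompose 𝒜 a]
  refine Ideal.sum_mem x.asHomogeneousIdeal.toIdeal fun e _ => ?_
  by_contra he
  refine H e _ (SetLike.coe_mem _) he ?_
  have hcomp : ∀ c : A, (DirectSum.decompose ℳ (c • m) (e + d) : M) = (DirectSum.decompose 𝒜 c e : A) • m := by
    intro c
    induction c using DirectSum.Decomposition.inductionOn 𝒜 with
    | zero => simp
    | homogeneous c =>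
      rename_i i
      have hcm : (c : A) • m ∈ ℳ (i + d) := GrT.gsmul_mem 𝒜 ℳ c.2 hm
      by_cases hie : i = e
      · subst hie
        rw [DirectSum.decompose_of_mem_same ℳ hcm, DirectSum.decompose_of_mem_same 𝒜 c.2]
      · rw [DirectSum.decompose_of_mem_ne ℳ hcm (by omega), DirectSum.decompose_of_mem_ne 𝒜 c.2 hie, zero_smul]
    | add a b ha hb =>
      rw [add_smul, DirectSum.decompose_add, DirectSum.decompose_add, DFinsupp.add_apply, DFinsupp.add_apply,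
        AddMemClass.coe_add, AddMemClass.coe_add, ha, hb, add_smul]
  rw [← hcomp a, h, DirectSum.decompose_zero]
  rfl

include hP in
theorem eq_zero_near {W : Y.Opens} {hW : IsAffineOpen W} {y : Proj (𝒮.deg W hW)} {O : P.Opens} {σ : Γ(F, O)}
    (h : Φ.Rep hW y σ 0) :
    ∃ (N : P.Opens) (hN : N ≤ O), (RelProj.emb p chart W hW).base y ∈ N ∧ res F hN σ = 0 := by
  obtain ⟨d, m, f, hf, g, hg, N, hN, hNO, hyN, e, hq⟩ := h
  obtain ⟨a, ha, ham⟩ := GrT.frac_eq_zero_iff.mp hq.symm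
  obtain ⟨i, b, hb, hby, hbm⟩ := exists_component_notMem (ℳ := ℳ.deg W hW) m.2 ha ham
  let c : 𝒮.deg W hW (i + d) := ⟨b * f, SetLike.mul_mem_graded hb f.2⟩
  let N' : P.Opens := N ⊓ P.basicOpen (fr p chart (mkKey hW g).1 (i + d) c)
  refine ⟨N', inf_le_left.trans hNO, ⟨hyN, (emb_mem_basicOpen_fr p chart).mpr ⟨hg, GrT.mul_notMem hby hf⟩⟩, ?_⟩
  have e1 := Φ.rep_change hP e (inf_le_left : N' ≤ N) (inf_le_left.trans hN)
  have hbm' : b • (m : ℳ.mod.val.obj (op W)) ∈ ℳ.deg W hW (i + d) := GrT.gsmul_mem (𝒮.deg W hW) (ℳ.deg W hW) hb m.2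
  have h0 : fr p chart (mkKey hW g).1 i ⟨b, hb⟩ • Φ.coef (mkKey hW g).1 d m = 0 := by
    rw [← Φ.coef_smul (mkKey hW g).1 i d (i + d) ⟨b, hb⟩ m rfl hbm',
      show (⟨_, hbm'⟩ : ℳ.deg W hW (i + d)) = 0 from Subtype.ext hbm, map_zero]
  have h1 := congrArg (res F (inf_le_left.trans hN : N' ≤ _)) h0
  rw [QC70.res_smul, QC70.res_zero, ← e1, smul_smul, ← resO_mul] at h1
  have e3 : fr p chart (mkKey hW g).1 i ⟨b, hb⟩ * fr p chart (mkKey hW g).1 d f = fr p chart (mkKey hW g).1 (i + d) c :=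
    (fr_mul p chart (mkKey hW g).1 ⟨b, hb⟩ f).symm
  rw [e3] at h1
  have hu : IsUnit (resO P (inf_le_left.trans hN : N' ≤ _) (fr p chart (mkKey hW g).1 (i + d) c)) := by
    rw [← QC70.resO_resO (P.basicOpen_le _) (inf_le_right : N' ≤ _)]
    exact IsUnit.map (P.presheaf.map (homOfLE (inf_le_right : N' ≤ _)).op).hom
      (RingedSpace.isUnit_res_basicOpen P.toRingedSpace (fr p chart (mkKey hW g).1 (i + d) c))
  exact hu.smul_left_cancel.mp (h1.trans (smul_zero _).symm)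

theorem lam_injective {W : Y.Opens} (hW : IsAffineOpen W) {O : P.Opens} (hO : O ≤ p ⁻¹ᵁ W) :
    Function.Injective ((Φ.lam hP hG hF hfull hW).app O) := by
  refine (injective_iff_map_eq_zero _).mpr fun σ hσ => QC70.section_ext F _ _ fun x hx => ?_
  obtain ⟨y, rfl⟩ := exists_emb p chart W hW (hO hx)
  have h0 : Φ.Rep hW y σ 0 := by
    have := Φ.rep_value hfull hW σ ⟨y, hx⟩
    rwa [← Φ.val_lam hP hG hF hfull hW σ ⟨y, hx⟩, hσ] at this
  obtain ⟨N, hN, hyN, hσN⟩ := Φ.eq_zero_near hP h0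
  exact ⟨N, hN, hyN, by rw [hσN, QC70.res_zero]⟩

include hP hG hF in
theorem exists_local_preimage {W : Y.Opens} {hW : IsAffineOpen W} {O : P.Opens}
    (τ : GrMod.sect (𝒮.deg W hW) (ℳ.deg W hW) 0 (op (RelProj.emb p chart W hW ⁻¹ᵁ O)))
    (y : (RelProj.emb p chart W hW ⁻¹ᵁ O : (Proj (𝒮.deg W hW)).Opens)) :
    ∃ (O' : P.Opens) (hO' : O' ≤ O) (σ : Γ(F, O')), (RelProj.emb p chart W hW).base y.1 ∈ O' ∧
      ∀ y' : (RelProj.emb p chart W hW ⁻¹ᵁ O' : (Proj (𝒮.deg W hW)).Opens),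
        Φ.value hfull hW σ y' = (τ.1 ⟨y'.1, hO' y'.2⟩).1 := by
  have H := GrT.exists_local_frac (n := (0 : ℤ))
    (U := (RelProj.emb p chart W hW ⁻¹ᵁ O : (Proj (𝒮.deg W hW)).Opens)) τ y
  obtain ⟨i, j, b, a, -, hbm, ham, hij, hle, hyb, hτ⟩ := H
  obtain rfl : j = i := by omega
  obtain ⟨g, hg⟩ := exists_gen_at hG hW y.1
  let O' : P.Opens := O ⊓ P.basicOpen (fr p chart (mkKey hW g).1 j ⟨b, hbm⟩)
  have hO' : O' ≤ O := inf_le_left
  have hOd : O' ≤ dop p chart (mkKey hW g).1 := inf_le_right.trans (P.basicOpen_le _)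
  have hyO' : (RelProj.emb p chart W hW).base y.1 ∈ O' :=
    ⟨y.2, (emb_mem_basicOpen_fr p chart).mpr ⟨hg, hyb⟩⟩
  have hu : IsUnit (resO P hOd (fr p chart (mkKey hW g).1 j ⟨b, hbm⟩)) := by
    rw [← QC70.resO_resO (P.basicOpen_le _) (inf_le_right : O' ≤ _)]
    exact IsUnit.map (P.presheaf.map (homOfLE (inf_le_right : O' ≤ _)).op).hom
      (RingedSpace.isUnit_res_basicOpen P.toRingedSpace (fr p chart (mkKey hW g).1 j ⟨b, hbm⟩))
  obtain ⟨u, hu⟩ := hu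
  refine ⟨O', hO', (↑u⁻¹ : Γ(P, O')) • res F hOd (Φ.coef (mkKey hW g).1 j ⟨a, ham⟩), hyO', fun y' => ?_⟩
  have hb' : b ∉ y'.1.asHomogeneousIdeal := ((emb_mem_basicOpen_fr p chart).mp y'.2.2).2
  refine (Φ.value_eq hP hG hF hfull ?_).trans (hτ ⟨y'.1, hb'⟩).symm
  refine ⟨j, ⟨a, ham⟩, ⟨b, hbm⟩, hb', g, (emb_mem_dop p chart).mp (hOd y'.2), O', hOd, le_rfl, y'.2, ?_, rfl⟩
  rw [QC70.res_self, ← hu, smul_smul, Units.mul_inv, one_smul]

theorem lam_app_ext {W : Y.Opens} (hW : IsAffineOpen W) {O : P.Opens} (σ σ' : Γ(F, O))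
    (h : ∀ y, Φ.value hfull hW σ y = Φ.value hfull hW σ' y) :
    (Φ.lam hP hG hF hfull hW).app O σ = (Φ.lam hP hG hF hfull hW).app O σ' :=
  GrT.sect_ext (s := Φ.lamFun hP hG hF hfull hW O σ) (t := Φ.lamFun hP hG hF hfull hW O σ') h

theorem lam_surjective {W : Y.Opens} (hW : IsAffineOpen W) {O : P.Opens} (hO : O ≤ p ⁻¹ᵁ W) :
    Function.Surjective ((Φ.lam hP hG hF hfull hW).app O) := by
  intro τ
  choose O' hO' σ hy hσ using Φ.exists_local_preimage hP hG hF hfull (W := W) (hW := hW) (O := O) τ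
  have hcov : O ≤ ⨆ y, O' y := fun x hx => by
    obtain ⟨y, rfl⟩ := exists_emb p chart W hW (hO hx)
    exact Opens.mem_iSup.mpr ⟨⟨y, hx⟩, hy ⟨y, hx⟩⟩
  obtain ⟨t, ht⟩ := QC70.exists_glue F O' hO' hcov σ fun a b => by
    refine Φ.lam_injective hP hG hF hfull hW ((inf_le_left.trans (hO' a)).trans hO) ?_
    refine Φ.lam_app_ext hP hG hF hfull hW _ _ fun y' => ?_
    refine (Φ.value_eq hP hG hF hfull (Φ.rep_res inf_le_left y'.2
      (Φ.rep_value hfull hW (σ a) ⟨y'.1, y'.2.1⟩))).trans (Eq.trans ?_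
        (Φ.value_eq hP hG hF hfull (Φ.rep_res inf_le_right y'.2
          (Φ.rep_value hfull hW (σ b) ⟨y'.1, y'.2.2⟩))).symm)
    exact (hσ a ⟨y'.1, y'.2.1⟩).trans (hσ b ⟨y'.1, y'.2.2⟩).symm
  refine ⟨t, GrT.sect_ext fun y => ?_⟩
  have hr := Φ.rep_value hfull hW (res F (hO' y) t) ⟨y.1, hy y⟩
  refine (Φ.value_eq hP hG hF hfull (Φ.rep_of_res (hO' y) hr)).trans ?_
  rw [ht y]
  exact hσ y ⟨y.1, hy y⟩

include hP hG hF in
theorem value_restr {W W' : Y.Opens} (hW : IsAffineOpen W) (hW' : IsAffineOpen W') (i : W' ≤ W)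
    (hirr : (𝒮.deg W' hW')₊ ≤ ((𝒮.deg W hW)₊).map (𝒮.res hW hW' i)) {O : P.Opens} (σ : Γ(F, O))
    (y : Proj (𝒮.deg W' hW')) (hy : (RelProj.emb p chart W' hW').base y ∈ O)
    (hy' : (RelProj.emb p chart W hW).base (ProjectiveSpectrum.comap (𝒮.res hW hW' i) hirr y) ∈ O) :
    Φ.value hfull hW' σ ⟨y, hy⟩ =
      GrMod.locModMap (𝒮.res hW hW' i) hirr (ℳ.res hW hW' i) y (Φ.value hfull hW σ ⟨_, hy'⟩) := by
  obtain ⟨d, m, f, hf, g, hg, N, hN, hNO, hyN, e, hq⟩ := Φ.rep_value hfull hW σ ⟨_, hy'⟩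
  rw [hq, GrMod.locModMap_mk]
  refine Φ.value_eq hP hG hF hfull (y := ⟨y, hy⟩) ?_
  have hemb : (RelProj.emb p chart W hW).base (ProjectiveSpectrum.comap (𝒮.res hW hW' i) hirr y) =
      (RelProj.emb p chart W' hW').base y := emb_comap p chart hP hW hW' i y
  let N' : P.Opens := N ⊓ p ⁻¹ᵁ W'
  have hN' : N' ≤ dop p chart (mkKey hW' (degRes hW hW' i 1 g)).1 := by
    refine le_trans ?_ (dop_restr p chart hP (mkKey hW g).1 hW' i).ge
    exact inf_le_inf hN le_rfl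
  refine ⟨d, ⟨ℳ.res hW hW' i m, ℳ.res_mem hW hW' i d m m.2⟩, degRes hW hW' i d f, hf, degRes hW hW' i 1 g, hg,
    N', hN', inf_le_left.trans hNO, ⟨Eq.subst (motive := fun t => t ∈ N) hemb hyN, emb_mem_preimage p chart W' hW' y⟩,
    ?_, rfl⟩
  have e1 := Φ.rep_change hP e (inf_le_left : N' ≤ N) (inf_le_left.trans hN)
  have e3 : resO P hN' (fr p chart (mkKey hW' (degRes hW hW' i 1 g)).1 d (degRes hW hW' i d f)) =
      resO P (inf_le_left.trans hN) (fr p chart (mkKey hW g).1 d f) :=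
    fr_restr p chart hP (mkKey hW g).1 hW' i f (inf_le_left.trans hN) hN'
  rw [e3, e1]
  exact (Φ.coef_restr (mkKey hW g).1 W' hW' i d m N' (inf_le_left.trans hN) hN').symm

include hP hG hF in
theorem isRelTilde :
    RelProj.IsRelTilde 𝒮 p chart ℳ 0 F fun _ hW => Φ.lam hP hG hF hfull hW where
  bijective _ hW _ hO := ⟨Φ.lam_injective hP hG hF hfull hW hO, Φ.lam_surjective hP hG hF hfull hW hO⟩
  compat U hU r O s y hy hy' :=
    Φ.value_restr hP hG hF hfull hU (hU.basicOpen r) (Y.basicOpen_le r) (𝒮.irrelevant_le_map U hU r) s y hy hy'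

end lam

end CoefData

end Groth.Agent.EGAProj74.GammaRel
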