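import Groth.Agent.EGAProj74.GammaRel.Glue
import Groth.Prelude.Def_RelProj3
import Mathlib.Algebra.Polynomial.Module.Basic

/-!
The graded module of compatible families of twisted sections, and its graded submodules.
-/

set_option autoImplicit false
set_option backward.isDefEq.respectTransparency.types false

universe u

open CategoryTheory AlgebraicGeometry TopologicalSpace Opposite
open scoped DirectSum

noncomputable section

namespace Groth.Agent.EGAProj74.GammaRel

open QC70 (res resO)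

variable {Y P : Scheme.{u}} {𝒮 : RelProj.QCGrAlg Y} (p : P ⟶ Y)
  (chart : ∀ (U : Y.Opens) (hU : IsAffineOpen U), (((p ⁻¹ᵁ U : P.Opens) : Scheme.{u}) ≅ Proj (𝒮.deg U hU)))

/-- The coordinates of a section of the algebra at a key. -/
def theta (k : Key 𝒮) : 𝒮.presheaf.obj (op k.W) →+* Polynomial Γ(P, dop p chart k) :=
  (DirectSum.toSemiring (fun j => (Polynomial.monomial j).toAddMonoidHom.comp (fr p chart k j))
    (by
      show Polynomial.monomial 0 (fr p chart k 0 ⟨1, SetLike.GradedOne.one_mem⟩) = 1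
      rw [fr_one, Polynomial.monomial_zero_one])
    (fun {i j} a b => by
      show Polynomial.monomial (i + j)
          (fr p chart k (i + j) ⟨(a : 𝒮.presheaf.obj (op k.W)) * b, SetLike.mul_mem_graded a.2 b.2⟩) =
        Polynomial.monomial i (fr p chart k i a) * Polynomial.monomial j (fr p chart k j b)
      rw [Polynomial.monomial_mul_monomial, fr_mul])).comp
    (DirectSum.decomposeRingEquiv (𝒮.deg k.W k.hW)).toRingHom

theorem theta_mem (k : Key 𝒮) {j : ℕ} (a : 𝒮.deg k.W k.hW j) :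
    theta p chart k a = Polynomial.monomial j (fr p chart k j a) := by
  rw [theta, RingHom.comp_apply, RingEquiv.toRingHom_eq_coe, RingEquiv.coe_toRingHom,
    show DirectSum.decomposeRingEquiv (𝒮.deg k.W k.hW) (a : 𝒮.presheaf.obj (op k.W)) =
        DirectSum.of (fun i => 𝒮.deg k.W k.hW i) j a from DirectSum.decompose_coe (𝒮.deg k.W k.hW) a,
    DirectSum.toSemiring_of]
  rfl

/-- The coordinates at a key inside `V` of a section over `V`. -/
def act {V : Y.Opens} (k : Keys 𝒮 V) : 𝒮.presheaf.obj (op V) →+* Polynomial Γ(P, dop p chart k.1) :=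
  (theta p chart k.1).comp (𝒮.presheaf.map (homOfLE k.2).op).hom

variable (F : P.Modules)

/-- Families of polynomials of sections, indexed by the keys inside `V`. -/
def Carrier (V : Y.Opens) : Type u :=
  ∀ k : Keys 𝒮 V, PolynomialModule Γ(P, dop p chart k.1) Γ(F, dop p chart k.1)

instance (V : Y.Opens) : AddCommGroup (Carrier p chart F V) := inferInstanceAs (AddCommGroup (∀ _, _))

instance (V : Y.Opens) : Module (𝒮.presheaf.obj (op V)) (Carrier p chart F V) :=
  letI := fun k : Keys 𝒮 V => Module.compHom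
    (PolynomialModule Γ(P, dop p chart k.1) Γ(F, dop p chart k.1)) (act p chart k)
  inferInstanceAs (Module (𝒮.presheaf.obj (op V)) (∀ k : Keys 𝒮 V,
    PolynomialModule Γ(P, dop p chart k.1) Γ(F, dop p chart k.1)))

variable {p chart F}

/-- The coefficients in degree `n`. -/
def cf {V : Y.Opens} (n : ℕ) (w : Carrier p chart F V) : Fam p chart F V := fun k => (w k).coeff n

theorem Carrier.ext' {V : Y.Opens} {v w : Carrier p chart F V} (h : ∀ n k, cf n v k = cf n w k) : v = w :=
  funext fun k => PolynomialModule.coeff_injective (Finsupp.ext fun n => h n k)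

theorem cf_zero {V : Y.Opens} (n : ℕ) : cf n (0 : Carrier p chart F V) = 0 := rfl

theorem cf_add {V : Y.Opens} (n : ℕ) (v w : Carrier p chart F V) : cf n (v + w) = cf n v + cf n w := rfl

/-- Evaluation of a coefficient. -/
def cfHom {V : Y.Opens} (n : ℕ) (k : Keys 𝒮 V) : Carrier p chart F V →+ Γ(F, dop p chart k.1) :=
  AddMonoidHom.mk' (fun w => cf n w k) fun _ _ => rfl

theorem cf_smul {V : Y.Opens} {a : 𝒮.presheaf.obj (op V)} (w : Carrier p chart F V) (n : ℕ) (k : Keys 𝒮 V)
    {j : ℕ} (b : 𝒮.deg k.1.W k.1.hW j)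
    (hb : (𝒮.presheaf.map (homOfLE k.2).op).hom a = b) :
    cf n (a • w) k = if j ≤ n then fr p chart k.1 j b • cf (n - j) w k else 0 := by
  show (act p chart k a • w k).coeff n = _
  rw [act, RingHom.comp_apply, hb, theta_mem, PolynomialModule.monomial_smul_apply]
  rfl

theorem cf_smul_affine {U : Y.Opens} (hU : IsAffineOpen U) {j : ℕ} {a : 𝒮.presheaf.obj (op U)}
    (ha : a ∈ 𝒮.deg U hU j) (w : Carrier p chart F U) (n : ℕ) (k : Keys 𝒮 U) :
    cf n (a • w) k = if j ≤ n then fr p chart k.1 j (degRes hU k.1.hW k.2 j ⟨a, ha⟩) • cf (n - j) w k else 0 :=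
  cf_smul w n k (degRes hU k.1.hW k.2 j ⟨a, ha⟩) rfl

/-- The compatible families. -/
def IsCompat {V : Y.Opens} (w : Carrier p chart F V) : Prop := ∀ n, IsCompatDeg F n (cf n w)

theorem compat_theta (hP : RelProj.IsRelProj 𝒮 p chart) {V : Y.Opens} {w : Carrier p chart F V} (hw : IsCompat w)
    (k k' : Keys 𝒮 V) (i : k'.1.W ≤ k.1.W) (b : 𝒮.presheaf.obj (op k.1.W)) (n : ℕ) (O : P.Opens)
    (h : O ≤ dop p chart k.1) (h' : O ≤ dop p chart k'.1) :
    res F h' ((theta p chart k'.1 (𝒮.res k.1.hW k'.1.hW i b) • w k').coeff n) =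
      resO P h' (ratio p chart k.1 k'.1 i) ^ n • res F h ((theta p chart k.1 b • w k).coeff n) := by
  classical
  induction b using DirectSum.Decomposition.inductionOn (𝒮.deg k.1.W k.1.hW) with
  | zero =>
    rw [map_zero, map_zero, map_zero, zero_smul, zero_smul]
    exact (QC70.res_zero h').trans ((smul_zero _).symm.trans (congrArg (_ • ·) (QC70.res_zero h).symm))
  | homogeneous b =>
    rename_i j
    rw [show 𝒮.res k.1.hW k'.1.hW i (b : 𝒮.presheaf.obj (op k.1.W)) =
        (degRes k.1.hW k'.1.hW i j b : 𝒮.presheaf.obj (op k'.1.W)) from rfl, theta_mem, theta_mem,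
      PolynomialModule.monomial_smul_apply, PolynomialModule.monomial_smul_apply]
    split_ifs with hjn
    · have hw' : res F h' ((w k').coeff (n - j)) =
          resO P h' (ratio p chart k.1 k'.1 i) ^ (n - j) • res F h ((w k).coeff (n - j)) := hw (n - j) k k' i O h h'
      rw [QC70.res_smul, QC70.res_smul, hw', smul_smul, smul_smul, fr_compat p chart hP i b h h']
      congr 1
      show resO P h' (ratio p chart k.1 k'.1 i) ^ j * _ * _ = _
      conv_rhs => rw [← Nat.add_sub_cancel' hjn, pow_add]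
      ring
    · rw [QC70.res_zero, QC70.res_zero, smul_zero]
  | add b c hb hc =>
    rw [map_add, map_add, map_add, add_smul, add_smul, PolynomialModule.coeff_add, PolynomialModule.coeff_add,
      Finsupp.add_apply, Finsupp.add_apply, QC70.res_add, QC70.res_add, hb, hc, smul_add]

theorem IsCompat.smul (hP : RelProj.IsRelProj 𝒮 p chart) {V : Y.Opens} {w : Carrier p chart F V} (hw : IsCompat w)
    (a : 𝒮.presheaf.obj (op V)) : IsCompat (a • w) := by
  intro n k k' i O h h'
  have e := compat_theta hP hw k k' i ((𝒮.presheaf.map (homOfLE k.2).op).hom a) n O h h'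
  rw [show 𝒮.res k.1.hW k'.1.hW i ((𝒮.presheaf.map (homOfLE k.2).op).hom a) =
    (𝒮.presheaf.map (homOfLE k'.2).op).hom a from res_res_apply 𝒮 k.2 i a] at e
  exact e

theorem IsCompat.zero {V : Y.Opens} : IsCompat (0 : Carrier p chart F V) := fun n k k' i O h h' => by
  show res F h' (0 : Γ(F, dop p chart k'.1)) = _ • res F h (0 : Γ(F, dop p chart k.1))
  rw [QC70.res_zero, QC70.res_zero, smul_zero]

theorem IsCompat.add {V : Y.Opens} {v w : Carrier p chart F V} (hv : IsCompat v) (hw : IsCompat w) :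
    IsCompat (v + w) := fun n k k' i O h h' => by
  show res F h' (cf n v k' + cf n w k') = _ • res F h (cf n v k + cf n w k)
  rw [QC70.res_add, QC70.res_add, hv n k k' i O h h', hw n k k' i O h h', smul_add]

variable (p chart F) in
/-- All compatible families. -/
def compatSubmodule (hP : RelProj.IsRelProj 𝒮 p chart) (V : Y.Opens) :
    Submodule (𝒮.presheaf.obj (op V)) (Carrier p chart F V) where
  carrier := {w | IsCompat w}
  zero_mem' := IsCompat.zero
  add_mem' hv hw := hv.add hw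
  smul_mem' a _ hw := hw.smul hP a

/-- Restriction of families. -/
def resC {V V' : Y.Opens} (h : V' ≤ V) (w : Carrier p chart F V) : Carrier p chart F V' :=
  fun k => w ⟨k.1, k.2.trans h⟩

theorem cf_resC {V V' : Y.Opens} (h : V' ≤ V) (w : Carrier p chart F V) (n : ℕ) (k : Keys 𝒮 V') :
    cf n (resC h w) k = cf n w ⟨k.1, k.2.trans h⟩ := rfl

theorem resC_smul {V V' : Y.Opens} (h : V' ≤ V) (a : 𝒮.presheaf.obj (op V)) (w : Carrier p chart F V) :
    resC h (a • w) = (𝒮.presheaf.map (homOfLE h).op).hom a • resC h w := by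
  funext k
  show act p chart (⟨k.1, k.2.trans h⟩ : Keys 𝒮 V) a •
      (w ⟨k.1, k.2.trans h⟩ : PolynomialModule Γ(P, dop p chart k.1) Γ(F, dop p chart k.1)) =
    act p chart k ((𝒮.presheaf.map (homOfLE h).op).hom a) •
      (w ⟨k.1, k.2.trans h⟩ : PolynomialModule Γ(P, dop p chart k.1) Γ(F, dop p chart k.1))
  rw [act, act, RingHom.comp_apply, RingHom.comp_apply, res_res_apply 𝒮 h k.2]

/-- The component of degree `n`. -/
def comp {V : Y.Opens} (n : ℕ) : Carrier p chart F V →+ Carrier p chart F V :=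
  AddMonoidHom.mk' (fun w k => PolynomialModule.single _ n ((w k).coeff n))
    (fun v w => funext fun k => PolynomialModule.single_add _ _ _)

theorem cf_comp {V : Y.Opens} (n i : ℕ) (w : Carrier p chart F V) (k : Keys 𝒮 V) :
    cf i (comp n w) k = if i = n then cf i w k else 0 := by
  show (PolynomialModule.single _ n ((w k).coeff n)).coeff i = _
  rw [PolynomialModule.coeff_single, Finsupp.single_apply]
  by_cases h : i = n
  · subst h; rw [if_pos rfl, if_pos rfl]; rfl
  · rw [if_neg (Ne.symm h), if_neg h]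

theorem IsCompat.comp {V : Y.Opens} {w : Carrier p chart F V} (hw : IsCompat w) (n : ℕ) :
    IsCompat (GammaRel.comp n w) := fun i k k' hk O h h' => by
  rw [cf_comp, cf_comp]
  split_ifs
  · exact hw i k k' hk O h h'
  · rw [QC70.res_zero, QC70.res_zero, smul_zero]

variable (p chart F) in
/-- A graded subsheaf of modules of compatible families. -/
structure Sub where
  /-- The members. -/
  carrier : ∀ V : Y.Opens, Submodule (𝒮.presheaf.obj (op V)) (Carrier p chart F V)
  compat : ∀ {V : Y.Opens}, ∀ w ∈ carrier V, IsCompat w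
  res_mem : ∀ {V V' : Y.Opens} (h : V' ≤ V), ∀ w ∈ carrier V, resC h w ∈ carrier V'
  of_locally : ∀ {V : Y.Opens} (w : Carrier p chart F V), IsCompat w →
    (∀ z ∈ V, ∃ (V' : Y.Opens) (h : V' ≤ V), z ∈ V' ∧ resC h w ∈ carrier V') → w ∈ carrier V
  comp_mem : ∀ {V : Y.Opens}, IsAffineOpen V → ∀ w ∈ carrier V, ∀ n, GammaRel.comp n w ∈ carrier V

variable (p chart) in
/-- Every affine open has finitely many degree-one elements covering its preimage. -/
def HasGens : Prop :=
  ∀ (W : Y.Opens) (hW : IsAffineOpen W), ∃ s : Finset (𝒮.deg W hW 1),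
    ∀ z ∈ p ⁻¹ᵁ W, ∃ g : s, z ∈ dop p chart (mkKey hW g.1).1

theorem hasGens (hgen : 𝒮.IsGenDegOne) (hft : 𝒮.IsFTDeg 1) : HasGens p chart := fun W hW => by
  obtain ⟨s, hs⟩ := exists_gens hgen hft W hW
  exact ⟨s, fun z hz => cover_of_gens hW hs hz⟩

theorem IsCompat.cf_eq_zero (hP : RelProj.IsRelProj 𝒮 p chart) {U : Y.Opens} (hU : IsAffineOpen U)
    {s : Finset (𝒮.deg U hU 1)} (hs : ∀ z ∈ p ⁻¹ᵁ U, ∃ g : s, z ∈ dop p chart (mkKey hU g.1).1)
    {w : Carrier p chart F U} (hw : IsCompat w) {n : ℕ} (h0 : ∀ g : s, cf n w (mkKey hU g.1) = 0)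
    (k : Keys 𝒮 U) : cf n w k = 0 :=
  (hw n).eq_zero_of_cover hP F (fun g : s => mkKey hU g.1) k
    (fun z hz => hs z (p.preimage_mono k.2 (dop_le p chart k.1 hz))) h0

theorem IsCompat.exists_bound (hP : RelProj.IsRelProj 𝒮 p chart) (hG : HasGens p chart) {U : Y.Opens}
    (hU : IsAffineOpen U) {w : Carrier p chart F U} (hw : IsCompat w) :
    ∃ N : ℕ, ∀ n, N ≤ n → ∀ k, cf n w k = 0 := by
  classical
  obtain ⟨s, hs⟩ := hG U hU
  refine ⟨(Finset.univ.biUnion fun g : s => (w (mkKey hU g.1)).coeff.support).sup id + 1,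
    fun n hn => hw.cf_eq_zero hP hU hs fun g => ?_⟩
  by_contra h
  have : n ≤ (Finset.univ.biUnion fun g : s => (w (mkKey hU g.1)).coeff.support).sup id :=
    Finset.le_sup (f := id) (Finset.mem_biUnion.mpr ⟨g, Finset.mem_univ g, Finsupp.mem_support_iff.mpr h⟩)
  omega

/-- The family with one coefficient. -/
def single {V : Y.Opens} (n : ℕ) (x : Fam p chart F V) : Carrier p chart F V :=
  fun k => PolynomialModule.single _ n (x k)

theorem cf_single {V : Y.Opens} (n i : ℕ) (x : Fam p chart F V) (k : Keys 𝒮 V) :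
    cf i (single n x) k = if i = n then x k else 0 := by
  show (PolynomialModule.single _ n (x k)).coeff i = _
  rw [PolynomialModule.coeff_single, Finsupp.single_apply]
  by_cases h : i = n
  · subst h; simp
  · rw [if_neg (Ne.symm h), if_neg h]

theorem isCompat_single {V : Y.Opens} {n : ℕ} {x : Fam p chart F V} (hx : IsCompatDeg F n x) :
    IsCompat (single n x) := fun i k k' hk O h h' => by
  rw [cf_single, cf_single]
  split_ifs with h1
  · subst h1; exact hx k k' hk O h h'
  · rw [QC70.res_zero, QC70.res_zero, smul_zero]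

namespace Sub

variable (hP : RelProj.IsRelProj 𝒮 p chart) (hG : HasGens p chart) (N : Sub p chart F)

include hP in
theorem ext_of_cover {V : Y.Opens} {ι : Type u} (U : ι → Y.Opens) (hU : ∀ i, U i ≤ V) (hcov : V ≤ ⨆ i, U i)
    (hG : HasGens p chart) {v w : Carrier p chart F V} (hv : IsCompat v) (hw : IsCompat w)
    (h : ∀ i, resC (hU i) v = resC (hU i) w) : v = w := by
  refine Carrier.ext' fun n l => ?_
  refine (hv n).eq_of_cover (ι := Σ i, Keys 𝒮 (U i)) hP F (hw n) (fun a => ⟨a.2.1, a.2.2.trans (hU a.1)⟩) l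
    (fun z hz => ?_) fun a => congr_fun (congrArg (cf n) (h a.1)) a.2
  obtain ⟨i, hi⟩ := Opens.mem_iSup.mp (hcov (l.2 (dop_le p chart l.1 hz)))
  obtain ⟨W, hW, hzW, hWU⟩ := exists_affine_le hi
  obtain ⟨s, hs⟩ := hG W hW
  obtain ⟨g, hg⟩ := hs z hzW
  exact ⟨⟨i, ⟨(mkKey hW g.1).1, hWU⟩⟩, hg⟩

include hP hG in
theorem exists_glue {ι : Type u} (U : ι → Y.Opens) (sf : ∀ i, N.carrier (U i))
    (h : ∀ i j, resC (inf_le_left : U i ⊓ U j ≤ U i) (sf i).1 = resC (inf_le_right : U i ⊓ U j ≤ U j) (sf j).1) :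
    ∃ w : N.carrier (iSup U), ∀ i, resC (le_iSup U i) w.1 = (sf i).1 := by
  classical
  let κ := Σ i, Keys 𝒮 (U i)
  let kk : κ → Keys 𝒮 (iSup U) := fun a => ⟨a.2.1, a.2.2.trans (le_iSup U a.1)⟩
  have hcov : ∀ z ∈ p ⁻¹ᵁ (iSup U), ∃ a : κ, z ∈ dop p chart (kk a).1 := by
    intro z hz
    obtain ⟨i, hi⟩ := Opens.mem_iSup.mp hz
    obtain ⟨W, hW, hzW, hWU⟩ := exists_affine_le hi
    obtain ⟨s, hs⟩ := hG W hW
    obtain ⟨g, hg⟩ := hs z hzW
    exact ⟨⟨i, ⟨(mkKey hW g.1).1, hWU⟩⟩, hg⟩
  have hH : ∀ n, ∃ x : Fam p chart F (iSup U), IsCompatDeg F n x ∧ ∀ a : κ, x (kk a) = cf n (sf a.1).1 a.2 := by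
    intro n
    refine exists_assemble (ι := κ) hP F n kk (fun a => cf n (sf a.1).1 a.2) hcov ?_
    intro l a b ha hb O hl hOa hOb
    rw [← N.compat _ (sf a.1).2 n a.2 ⟨l.1, ha.trans a.2.2⟩ ha O hOa hl,
      ← N.compat _ (sf b.1).2 n b.2 ⟨l.1, hb.trans b.2.2⟩ hb O hOb hl]
    have e := congr_fun (congrArg (cf n) (h a.1 b.1)) ⟨l.1, le_inf (ha.trans a.2.2) (hb.trans b.2.2)⟩
    exact congrArg (res F hl) e
  choose x hx hxk using hH
  have hb : ∀ l : Keys 𝒮 (iSup U), ∃ B : ℕ, ∀ n, B ≤ n → x n l = 0 := by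
    intro l
    obtain ⟨T, hT⟩ := l.1.hW.isCompact.elim_finite_subcover
      (fun W : {W : Y.affineOpens // W.1 ≤ l.1.W ∧ ∃ i, W.1 ≤ U i} => (W.1.1 : Set Y)) (fun W => W.1.1.2)
      (fun z hz => by
        obtain ⟨i, hi⟩ := Opens.mem_iSup.mp (l.2 hz)
        obtain ⟨W, hW, hzW, hWle⟩ := exists_affine_le (O := l.1.W ⊓ U i) ⟨hz, hi⟩
        exact Set.mem_iUnion.mpr ⟨⟨⟨W, hW⟩, hWle.trans inf_le_left, i, hWle.trans inf_le_right⟩, hzW⟩)
    choose idx hidx using fun W : T => W.1.2.2
    have hB : ∀ W : T, ∃ B : ℕ, ∀ n, B ≤ n →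
        cf n (sf (idx W)).1 ⟨l.1.restr W.1.1.2 W.1.2.1, hidx W⟩ = 0 := fun W =>
      ⟨((((sf (idx W)).1) ⟨l.1.restr W.1.1.2 W.1.2.1, hidx W⟩).coeff.support.sup id) + 1, fun n hn => by
        by_contra hne
        have := Finset.le_sup (f := id) (Finsupp.mem_support_iff.mpr hne)
        simp only [id_eq] at this
        omega⟩
    choose B hB using hB
    refine ⟨Finset.univ.sup B, fun n hn => ?_⟩
    refine (hx n).eq_zero_of_cover hP F
      (fun W : T => (⟨l.1.restr W.1.1.2 W.1.2.1, W.1.2.1.trans l.2⟩ : Keys 𝒮 (iSup U))) l (fun z hz => ?_)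
      fun W => ?_
    · obtain ⟨W, hW⟩ := Set.mem_iUnion.mp (hT (dop_le p chart l.1 hz))
      obtain ⟨hWT, hzW⟩ := Set.mem_iUnion.mp hW
      exact ⟨⟨W, hWT⟩, by rw [dop_restr p chart hP]; exact ⟨hz, hzW⟩⟩
    · exact (hxk n ⟨idx W, ⟨_, hidx W⟩⟩).trans (hB W n ((Finset.le_sup (Finset.mem_univ W)).trans hn))
  choose B hB using hb
  let w : Carrier p chart F (iSup U) := fun l => PolynomialModule.ofCoeff _
    (Finsupp.onFinset (Finset.range (B l)) (fun n => x n l) fun n hn => by
      rw [Finset.mem_range]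
      by_contra hle
      exact hn (hB l n (not_lt.mp hle)))
  have hwc : ∀ n, cf n w = x n := fun n => rfl
  have hw : IsCompat w := fun n => by rw [hwc]; exact hx n
  have hres : ∀ i, resC (le_iSup U i) w = (sf i).1 := fun i => Carrier.ext' fun n k => by
    rw [cf_resC, hwc]
    exact hxk n ⟨i, k⟩
  refine ⟨⟨w, N.of_locally w hw fun z hz => ?_⟩, hres⟩
  obtain ⟨i, hi⟩ := Opens.mem_iSup.mp hz
  exact ⟨U i, le_iSup U i, hi, by rw [hres]; exact (sf i).2⟩

/-- The module structure over the sheaf of rings. -/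
@[instance_reducible] def objModule (V : (Opens Y.carrier)ᵒᵖ) :
    Module ((AMod.ringSheaf 𝒮.toQCAlg).obj.obj V) (N.carrier V.unop) :=
  inferInstanceAs (Module (𝒮.presheaf.obj (op V.unop)) (N.carrier V.unop))

attribute [local instance] objModule

/-- The presheaf of modules. -/
def toPresheaf : PresheafOfModules.{u} (AMod.ringSheaf 𝒮.toQCAlg).obj where
  obj V := ModuleCat.of ((AMod.ringSheaf 𝒮.toQCAlg).obj.obj V) (N.carrier V.unop)
  map {V V'} f := ModuleCat.ofHom
    (Y := (ModuleCat.restrictScalars ((AMod.ringSheaf 𝒮.toQCAlg).obj.map f).hom).obj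
      (ModuleCat.of ((AMod.ringSheaf 𝒮.toQCAlg).obj.obj V') (N.carrier V'.unop)))
    { toFun := fun w => (⟨resC f.unop.le w.1, N.res_mem f.unop.le w.1 w.2⟩ : N.carrier V'.unop)
      map_add' := fun _ _ => rfl
      map_smul' := fun a w => Subtype.ext (resC_smul f.unop.le a w.1) }
  map_id V := by ext; rfl
  map_comp f g := by ext; rfl

include hP hG in
theorem isSheaf : Presheaf.IsSheaf (Opens.grothendieckTopology Y) N.toPresheaf.presheaf := by
  refine (TopCat.Presheaf.isSheaf_iff_isSheafUniqueGluing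
    (F := (N.toPresheaf.presheaf : TopCat.Presheaf AddCommGrpCat.{u} Y))).mpr ?_
  intro ι U sf hsf
  obtain ⟨w, hw⟩ := N.exists_glue hP hG U (fun i => (sf i : N.carrier (U i)))
    fun i j => congrArg Subtype.val (hsf i j)
  refine ⟨w, fun i => Subtype.ext (hw i), fun w' hw' => Subtype.ext ?_⟩
  exact ext_of_cover hP U (le_iSup U) le_rfl hG (N.compat _ (w' : N.carrier (iSup U)).2) (N.compat _ w.2)
    fun i => (congrArg Subtype.val (hw' i)).trans (hw i).symm

/-- The module over the algebra. -/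
def amod : AMod 𝒮.toQCAlg := ⟨N.toPresheaf, N.isSheaf hP hG⟩

/-- The degree-`n` part. -/
def deg (U : Y.Opens) (n : ℕ) : AddSubgroup (N.carrier U) where
  carrier := {w | ∀ i, i ≠ n → ∀ k, cf i w.1 k = 0}
  zero_mem' := fun _ _ _ => rfl
  add_mem' {v w} hv hw i hi k := by
    show cf i v.1 k + cf i w.1 k = 0
    rw [hv i hi k, hw i hi k, add_zero]
  neg_mem' {v} hv i hi k := by
    show (cfHom i k) (-v.1) = 0
    rw [map_neg, show cfHom i k v.1 = 0 from hv i hi k, neg_zero]

theorem smul_mem_deg {U : Y.Opens} (hU : IsAffineOpen U) {j n : ℕ} {a : 𝒮.presheaf.obj (op U)}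
    (ha : a ∈ 𝒮.deg U hU j) {w : N.carrier U} (hw : w ∈ N.deg U n) : a • w ∈ N.deg U (j + n) := fun i hi k => by
  show cf i (a • w.1) k = 0
  rw [cf_smul_affine hU ha]
  split_ifs with hji
  · rw [hw (i - j) (by omega) k, smul_zero]
  · rfl

/-- The component in a given degree. -/
def piece {U : Y.Opens} (hU : IsAffineOpen U) (n : ℕ) (w : N.carrier U) : N.deg U n :=
  ⟨⟨GammaRel.comp n w.1, N.comp_mem hU w.1 w.2 n⟩, fun i hi k => by
    show cf i (GammaRel.comp n w.1) k = 0
    rw [cf_comp, if_neg hi]⟩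

/-- Evaluation of a coefficient. -/
def ev {U : Y.Opens} (i : ℕ) (k : Keys 𝒮 U) : N.carrier U →+ Γ(F, dop p chart k.1) :=
  (cfHom i k).comp (N.carrier U).subtype.toAddMonoidHom

theorem ev_apply {U : Y.Opens} (i : ℕ) (k : Keys 𝒮 U) (w : N.carrier U) : N.ev i k w = cf i w.1 k := rfl

theorem ev_ext {U : Y.Opens} {v w : N.carrier U} (h : ∀ i k, N.ev i k v = N.ev i k w) : v = w :=
  Subtype.ext (Carrier.ext' h)

theorem ev_piece {U : Y.Opens} (hU : IsAffineOpen U) (n i : ℕ) (w : N.carrier U) (k : Keys 𝒮 U) :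
    N.ev i k (N.piece hU n w).1 = if i = n then N.ev i k w else 0 :=
  cf_comp n i w.1 k

theorem ev_coe {U : Y.Opens} (i : ℕ) (k : Keys 𝒮 U) (x : DirectSum ℕ fun n => N.deg U n) :
    N.ev i k (DirectSum.coeAddMonoidHom (N.deg U) x) = N.ev i k (x i).1 := by
  classical
  induction x using DirectSum.induction_on with
  | zero => rw [map_zero]; rfl
  | of m y =>
    rw [DirectSum.coeAddMonoidHom_of]
    by_cases him : m = i
    · subst him; rw [DirectSum.of_eq_same]
    · rw [DirectSum.of_eq_of_ne _ _ _ (Ne.symm him)]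
      exact (y.2 i (Ne.symm him) k).trans (map_zero (N.ev i k)).symm
  | add u v hu hv =>
    rw [map_add, map_add, hu, hv]
    exact (map_add (N.ev i k) _ _).symm

include hP hG in
theorem isInternal {U : Y.Opens} (hU : IsAffineOpen U) : DirectSum.IsInternal (N.deg U) := by
  classical
  refine ⟨(injective_iff_map_eq_zero _).mpr fun x hx => ?_, fun w => ?_⟩
  · refine DFinsupp.ext fun n => Subtype.ext (N.ev_ext fun i k => ?_)
    by_cases hi : i = n
    · subst hi
      refine (N.ev_coe i k x).symm.trans ?_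
      rw [hx]
      rfl
    · exact ((x n).2 i hi k).trans (map_zero (N.ev i k)).symm
  · obtain ⟨M, hM⟩ := (N.compat _ w.2).exists_bound hP hG hU
    refine ⟨∑ n ∈ Finset.range M, DirectSum.of (fun n => N.deg U n) n (N.piece hU n w), N.ev_ext fun i k => ?_⟩
    simp only [map_sum, DirectSum.coeAddMonoidHom_of, ev_piece]
    rw [Finset.sum_ite_eq]
    split_ifs with hi
    · rfl
    · exact (hM i (not_lt.mp fun hlt => hi (Finset.mem_range.mpr hlt)) k).symm

/-- The graded module of a graded subsheaf of families. -/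
def grModule : RelProj.GrModule 𝒮 where
  mod := N.amod hP hG
  deg U _ n := N.deg U n
  decomp U hU := (N.isInternal hP hG hU).chooseDecomposition
  gradedSMul U hU := ⟨fun {_ _ _ _} ha hw => N.smul_mem_deg hU ha hw⟩
  map_mem {U V} _ _ i {d m} hm := fun n hn k => hm n hn ⟨k.1, k.2.trans i⟩

end Sub

end Groth.Agent.EGAProj74.GammaRel
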