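import Groth.Agent.EGAProj74.GammaRel.Lam

/-!
A quasi-coherent module on a relative Proj is the module attached to the compatible families of its twisted sections.
-/

set_option autoImplicit false
set_option backward.isDefEq.respectTransparency.types false

universe u

open CategoryTheory AlgebraicGeometry TopologicalSpace Opposite

noncomputable section

namespace Groth.Agent.EGAProj74.GammaRel

open QC70 (res resO)

variable {Y P : Scheme.{u}} {𝒮 : RelProj.QCGrAlg Y} {p : P ⟶ Y}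
  {chart : ∀ (U : Y.Opens) (hU : IsAffineOpen U), (((p ⁻¹ᵁ U : P.Opens) : Scheme.{u}) ≅ Proj (𝒮.deg U hU))}
  {F : P.Modules}

theorem res_chain {X : Scheme.{u}} (F : X.Modules) {U D E : X.Opens} (hD : D ≤ U) (hN : E ≤ D) (hDE : D ≤ E)
    (c : Γ(X, U)) (K : ℕ) (v : Γ(F, U)) (x : Γ(F, E)) (h : res F hD v = resO X hD c ^ K • res F hDE x) (c' : Γ(X, E))
    (hc : resO X (hN.trans hD) c = c') : res F (hN.trans hD) v = c' ^ K • x := by
  rw [← QC70.res_res hD hN, h, QC70.res_pow_smul, QC70.resO_resO, QC70.res_res, QC70.res_self, hc]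

theorem cf_str_smul (hP : RelProj.IsRelProj 𝒮 p chart) {V : Y.Opens} (r : Γ(Y, V)) (w : Carrier p chart F V)
    (n : ℕ) (k : Keys 𝒮 V) :
    cf n ((𝒮.str.app (op V)).hom r • w) k =
      resO P ((dop_le p chart k.1).trans (p.preimage_mono k.2)) (p.app V r) • cf n w k := by
  have hb : (𝒮.presheaf.map (homOfLE k.2).op).hom ((𝒮.str.app (op V)).hom r) =
      (𝒮.str.app (op k.1.W)).hom (resO Y k.2 r) :=
    (congr($(𝒮.str.naturality (homOfLE k.2).op).hom r)).symm
  rw [cf_smul w n k ⟨_, 𝒮.str_mem k.1.W k.1.hW (resO Y k.2 r)⟩ hb, if_pos (Nat.zero_le n), Nat.sub_zero,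
    fr_str p chart hP]
  congr 1
  have h1 := congr($(p.naturality (homOfLE k.2).op).hom r)
  refine (congrArg (resO P (dop_le p chart k.1)) h1).trans ?_
  exact QC70.resO_resO (p.preimage_mono k.2) (dop_le p chart k.1) (p.app V r)

theorem cf_str_pow_smul (hP : RelProj.IsRelProj 𝒮 p chart) {V : Y.Opens} (r : Γ(Y, V)) (K : ℕ)
    (w : Carrier p chart F V) (n : ℕ) (k : Keys 𝒮 V) :
    cf n ((𝒮.str.app (op V)).hom r ^ K • w) k =
      resO P ((dop_le p chart k.1).trans (p.preimage_mono k.2)) (p.app V r) ^ K • cf n w k := by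
  rw [← map_pow, cf_str_smul hP, map_pow, QC70.resO_pow]

theorem IsCompat.resC {V V' : Y.Opens} (h : V' ≤ V) {w : Carrier p chart F V} (hw : IsCompat w) :
    IsCompat (GammaRel.resC h w) :=
  fun n k k' i => hw n ⟨k.1, k.2.trans h⟩ ⟨k'.1, k'.2.trans h⟩ i

variable (p chart F) in
/-- All compatible families. -/
def Sub.top (hP : RelProj.IsRelProj 𝒮 p chart) : Sub p chart F where
  carrier := compatSubmodule p chart F hP
  compat _ hw := hw
  res_mem h _ hw := IsCompat.resC h hw
  of_locally _ hw _ := hw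
  comp_mem _ _ hw n := IsCompat.comp hw n

section locality

variable (hP : RelProj.IsRelProj 𝒮 p chart)
include hP

theorem basicOpen_appLE {U : Y.Opens} (r : Γ(Y, U)) (k : Keys 𝒮 U) :
    P.basicOpen (resO P ((dop_le p chart k.1).trans (p.preimage_mono k.2)) (p.app U r)) =
      dop p chart k.1 ⊓ p ⁻¹ᵁ Y.basicOpen r :=
  (Scheme.basicOpen_res P (p.app U r) (homOfLE ((dop_le p chart k.1).trans (p.preimage_mono k.2))).op).trans
    (by rw [Scheme.preimage_basicOpen])

/-- A family vanishing over a basic open is killed by a power of its equation. -/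
theorem exists_pow_smul_zero (hG : HasGens p chart) (hF : F.IsQuasicoherent) {U : Y.Opens} (hU : IsAffineOpen U)
    (r : Γ(Y, U)) {w : Carrier p chart F U} (hw : IsCompat w) (h0 : resC (Y.basicOpen_le r) w = 0) :
    ∃ K : ℕ, (𝒮.str.app (op U)).hom r ^ K • w = 0 := by
  classical
  have := hF
  obtain ⟨s, hs⟩ := hG U hU
  obtain ⟨B, hB⟩ := hw.exists_bound hP hG hU
  have hk : ∀ q : s × Fin B, ∃ K : ℕ,
      resO P ((dop_le p chart (mkKey hU q.1.1).1).trans (p.preimage_mono (mkKey hU q.1.1).2)) (p.app U r) ^ K •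
        cf q.2 w (mkKey hU q.1.1) = 0 := by
    intro q
    refine (QC70.isLocAt_of_isQuasicoherent F (isAffineOpen_dop p chart _)).eq_zero_of _ _ ?_
    have hle := (basicOpen_appLE hP r (mkKey hU q.1.1)).le
    have h2 := (dop_restr p chart hP (mkKey hU q.1.1).1 (hU.basicOpen r) (Y.basicOpen_le r)).ge
    rw [← (hw q.2).res_restr F (mkKey hU q.1.1) (hU.basicOpen r) (Y.basicOpen_le r) _ (hle.trans h2)]
    have e : cf q.2 w ⟨(mkKey hU q.1.1).1.restr (hU.basicOpen r) (Y.basicOpen_le r), Y.basicOpen_le r⟩ = 0 :=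
      congr_fun (congrArg (cf q.2) h0) ⟨(mkKey hU q.1.1).1.restr (hU.basicOpen r) (Y.basicOpen_le r), le_rfl⟩
    exact (congrArg (res F (hle.trans h2)) e).trans (QC70.res_zero _)
  choose K hK using hk
  let K₀ := Finset.univ.sup K
  refine ⟨K₀, Carrier.ext' fun n k => ((hw.smul hP _).cf_eq_zero hP hU hs (fun g => ?_) k).trans rfl⟩
  rw [cf_str_pow_smul hP]
  by_cases hn : n < B
  · rw [← Nat.sub_add_cancel (show K (g, ⟨n, hn⟩) ≤ K₀ from Finset.le_sup (f := K) (Finset.mem_univ _)),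
      pow_add, mul_smul]
    exact (congrArg (_ • ·) (hK (g, ⟨n, hn⟩))).trans (smul_zero _)
  · rw [hB n (not_lt.mp hn), smul_zero]

set_option maxHeartbeats 1000000 in
theorem exists_extension_single (hF : F.IsQuasicoherent) {U : Y.Opens} (hU : IsAffineOpen U)
    (s : Finset (𝒮.deg U hU 1))
    (hs : ∀ y : Proj (𝒮.deg U hU), ∃ g ∈ s, (g : 𝒮.presheaf.obj (op U)) ∉ y.asHomogeneousIdeal)
    (r : Γ(Y, U)) {n : ℕ} {x : Fam p chart F (Y.basicOpen r)} (hx : IsCompatDeg F n x) :
    ∃ (K : ℕ) (t : Carrier p chart F U), IsCompat t ∧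
      resC (Y.basicOpen_le r) t = (𝒮.str.app (op (Y.basicOpen r))).hom (resO Y (Y.basicOpen_le r) r) ^ K • single n x := by
  classical
  let a : 𝒮.deg U hU 0 := ⟨(𝒮.str.app (op U)).hom r, 𝒮.str_mem U hU r⟩
  have hopen : ∀ g : 𝒮.deg U hU 1, P.basicOpen (fr p chart (mkKey hU g).1 0 a) ≤
      dop p chart ((mkKey hU g).1.restr (hU.basicOpen r) (Y.basicOpen_le r)) := fun g => by
    rw [dop_restr p chart hP]
    exact (basicOpen_fr_str p chart hP (mkKey hU g).1 r).le
  let k' : 𝒮.deg U hU 1 → Keys 𝒮 (Y.basicOpen r) := fun g =>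
    ⟨(mkKey hU g).1.restr (hU.basicOpen r) (Y.basicOpen_le r), le_rfl⟩
  obtain ⟨K, v, hv, hvg⟩ := exists_extend hP F hF hU s hs a n (fun g => res F (hopen g.1) (x (k' g.1)))
    fun g g' O h h' => by
      rw [QC70.res_res, QC70.res_res,
        hx (k' g.1) (k' g'.1) le_rfl O (h.trans (hopen g.1)) (h'.trans (hopen g'.1))]
      congr 2
      have e1 := ratio_trans hP (k := (mkKey hU g.1).1) (k' := (k' g.1).1) (k'' := (k' g'.1).1) (Y.basicOpen_le r)
        le_rfl (h.trans (hopen g.1)) (h'.trans (hopen g'.1))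
      have e2 := ratio_trans hP (k := (mkKey hU g.1).1) (k' := (mkKey hU g'.1).1) (k'' := (k' g'.1).1) le_rfl
        (Y.basicOpen_le r) (h'.trans (P.basicOpen_le _)) (h'.trans (hopen g'.1))
      rw [resO_ratio_one p chart (ratio_restr_self p chart (mkKey hU g.1).1 (hU.basicOpen r) (Y.basicOpen_le r)),
        mul_one] at e1
      rw [resO_ratio_one p chart (ratio_restr_self p chart (mkKey hU g'.1).1 (hU.basicOpen r) (Y.basicOpen_le r)),
        one_mul] at e2
      exact e1.symm.trans e2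
  rw [Nat.mul_zero, Nat.add_zero] at hv
  refine ⟨K, single n v, isCompat_single hv, Carrier.ext' fun i l => ?_⟩
  refine ((IsCompat.resC (Y.basicOpen_le r) (isCompat_single hv)) i).eq_of_cover hP F
    ((isCompat_single hx).smul hP _ i) (fun g : s => k' g.1) l (fun z hz => ?_) fun g => ?_
  · have hzD := p.preimage_mono l.2 (dop_le p chart l.1 hz)
    obtain ⟨g, hg⟩ := cover_of_gens hU hs (p.preimage_mono (Y.basicOpen_le r) hzD)
    exact ⟨g, (dop_restr p chart hP (mkKey hU g.1).1 (hU.basicOpen r) (Y.basicOpen_le r)).ge ⟨hg, hzD⟩⟩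
  · show cf i (single n v) ⟨(k' g.1).1, Y.basicOpen_le r⟩ = _
    rw [cf_str_pow_smul hP, cf_single, cf_single]
    split_ifs with hi
    · subst hi
      have hN : dop p chart (k' g.1).1 ≤ P.basicOpen (fr p chart (mkKey hU g.1).1 0 a) :=
        (dop_restr p chart hP (mkKey hU g.1).1 (hU.basicOpen r) (Y.basicOpen_le r)).le.trans
          (basicOpen_fr_str p chart hP (mkKey hU g.1).1 r).ge
      have e := hv.res_restr F (mkKey hU g.1) (hU.basicOpen r) (Y.basicOpen_le r)
        (hN.trans (P.basicOpen_le _)) le_rfl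
      rw [QC70.res_self] at e
      refine e.trans (res_chain F (P.basicOpen_le _) hN (hopen g.1) (fr p chart (mkKey hU g.1).1 0 a) K
        (v (mkKey hU g.1)) (x (k' g.1)) (hvg g) _ ?_)
      refine (congrArg (resO P (hN.trans (P.basicOpen_le _))) (fr_str p chart hP (mkKey hU g.1).1 r)).trans ?_
      rw [QC70.resO_resO]
      have h1 := congr($(p.naturality (homOfLE (Y.basicOpen_le r)).op).hom r)
      refine Eq.trans ?_ (congrArg (resO P ((dop_le p chart (k' g.1).1).trans (p.preimage_mono (k' g.1).2))) h1).symm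
      exact (QC70.resO_resO (p.preimage_mono (Y.basicOpen_le r))
        ((dop_le p chart (k' g.1).1).trans (p.preimage_mono (k' g.1).2)) (p.app U r)).symm
    · rw [smul_zero]

/-- A family over a basic open extends after multiplication by a power of the equation. -/
theorem exists_extension (hgen : 𝒮.IsGenDegOne) (hft : 𝒮.IsFTDeg 1) (hF : F.IsQuasicoherent) {U : Y.Opens}
    (hU : IsAffineOpen U) (r : Γ(Y, U)) {w : Carrier p chart F (Y.basicOpen r)} (hw : IsCompat w) :
    ∃ (K : ℕ) (t : Carrier p chart F U), IsCompat t ∧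
      resC (Y.basicOpen_le r) t = (𝒮.str.app (op (Y.basicOpen r))).hom (resO Y (Y.basicOpen_le r) r) ^ K • w := by
  classical
  obtain ⟨s, hs⟩ := exists_gens hgen hft U hU
  obtain ⟨B, hB⟩ := hw.exists_bound hP (hasGens hgen hft) (hU.basicOpen r)
  choose K t ht hres using fun n : Fin B => exists_extension_single hP hF hU s hs r (hw n.1)
  let c := (𝒮.str.app (op (Y.basicOpen r))).hom (resO Y (Y.basicOpen_le r) r)
  let K₀ := Finset.univ.sup K
  refine ⟨K₀, ∑ n, (𝒮.str.app (op U)).hom r ^ (K₀ - K n) • t n,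
    (compatSubmodule p chart F hP U).sum_mem fun n _ => (ht n).smul hP _, ?_⟩
  have hsum : w = ∑ n : Fin B, single n.1 (cf n.1 w) := Carrier.ext' fun i k => by
    show cfHom i k w = cfHom i k (∑ n : Fin B, single n.1 (cf n.1 w))
    rw [map_sum]
    show cf i w k = ∑ n : Fin B, cf i (single n.1 (cf n.1 w)) k
    simp only [cf_single]
    by_cases hi : i < B
    · rw [Finset.sum_eq_single (⟨i, hi⟩ : Fin B) (fun n _ hn => if_neg fun e => hn (Fin.ext e.symm))
        (fun h => absurd (Finset.mem_univ _) h), if_pos rfl]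
    · rw [Finset.sum_eq_zero (fun (n : Fin B) _ => if_neg fun e : i = n.1 => hi (e ▸ n.2))]
      exact hB i (not_lt.mp hi) k
  conv_rhs => rw [hsum, Finset.smul_sum]
  have hadd : ∀ f : Fin B → Carrier p chart F U,
      resC (Y.basicOpen_le r) (∑ n, f n) = ∑ n, resC (Y.basicOpen_le r) (f n) := fun f =>
    map_sum (AddMonoidHom.mk' (resC (p := p) (chart := chart) (F := F) (Y.basicOpen_le r)) fun _ _ => rfl) f
      Finset.univ
  rw [hadd]
  refine Finset.sum_congr rfl fun n _ => ?_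
  rw [resC_smul, hres n, map_pow, smul_smul,
    show (𝒮.presheaf.map (homOfLE (Y.basicOpen_le r)).op).hom ((𝒮.str.app (op U)).hom r) = c from
      (congr($(𝒮.str.naturality (homOfLE (Y.basicOpen_le r)).op).hom r)).symm, ← pow_add,
    Nat.sub_add_cancel (show K n ≤ K₀ from Finset.le_sup (f := K) (Finset.mem_univ n))]

end locality

namespace Sub

variable (hP : RelProj.IsRelProj 𝒮 p chart) (hG : HasGens p chart) (N : Sub p chart F)

include hP hG in
theorem isQCoh (hF : F.IsQuasicoherent)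
    (hext : ∀ (U : Y.Opens) (_ : IsAffineOpen U) (r : Γ(Y, U)), ∀ w ∈ N.carrier (Y.basicOpen r),
      ∃ (K : ℕ), ∃ t ∈ N.carrier U, resC (Y.basicOpen_le r) t =
        (𝒮.str.app (op (Y.basicOpen r))).hom (resO Y (Y.basicOpen_le r) r) ^ K • w) :
    Coh.IsQCoh ((AMod.toOS 𝒮.toQCAlg).obj (N.amod hP hG)) := by
  refine QC70.isQuasicoherent_of_forall_isLocAt _ fun U hU => ⟨fun f w => ?_, fun f t ht => ?_⟩
  · let w' : N.carrier (Y.basicOpen f) := w
    obtain ⟨K, t, ht, hres⟩ := hext U hU f w'.1 w'.2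
    refine ⟨K, (⟨t, ht⟩ : N.carrier U), ?_⟩
    show (⟨resC (Y.basicOpen_le f) t, _⟩ : N.carrier (Y.basicOpen f)) =
      (𝒮.str.app (op (Y.basicOpen f))).hom (resO Y (Y.basicOpen_le f) f ^ K) • w'
    refine Subtype.ext ?_
    rw [map_pow]
    exact hres
  · let t' : N.carrier U := t
    have h0 : resC (Y.basicOpen_le f) t'.1 = 0 := congrArg Subtype.val ht
    obtain ⟨K, hK⟩ := exists_pow_smul_zero hP hG hF hU f (N.compat _ t'.2) h0
    refine ⟨K, ?_⟩
    show (𝒮.str.app (op U)).hom (f ^ K) • t' = 0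
    refine Subtype.ext ?_
    rw [map_pow]
    exact hK

/-- The coefficient maps of a graded subsheaf. -/
def coefData : CoefData p chart F (N.grModule hP hG) where
  coef k d := ((cfHom d (⟨k, le_rfl⟩ : Keys 𝒮 k.W)).comp (N.carrier k.W).subtype.toAddMonoidHom).comp
    (N.deg k.W d).subtype
  coef_smul k e d n a m hn h := by
    subst hn
    show cf (e + d) ((a : 𝒮.presheaf.obj (op k.W)) • (show N.carrier k.W from m.1).1)
        (⟨k, le_rfl⟩ : Keys 𝒮 k.W) = fr p chart k e a • cf d (show N.carrier k.W from m.1).1 _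
    rw [cf_smul_affine k.hW a.2, if_pos (Nat.le_add_right e d), Nat.add_sub_cancel_left]
    congr 1
    exact congrArg (fr p chart k e) (degRes_self k.hW a)
  coef_change W hW g g' d m O h h' :=
    N.compat _ (show N.carrier W from m.1).2 d (mkKey hW g) (mkKey hW g') le_rfl O h h'
  coef_restr k W' hW' i d m O h h' :=
    (N.compat _ (show N.carrier k.W from m.1).2 d).res_restr F ⟨k, le_rfl⟩ hW' i h h'
  faithful W hW d m h := by
    let m' : N.carrier W := m.1
    show m' = 0
    refine Subtype.ext (Carrier.ext' fun i k => ?_)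
    by_cases hi : i = d
    · subst hi
      obtain ⟨s, hs⟩ := hG W hW
      exact (N.compat _ m'.2).cf_eq_zero hP hW hs (n := i) (fun g => h g.1) k
    · exact m.2 i hi k

end Sub

set_option maxHeartbeats 1000000 in
theorem top_full (hP : RelProj.IsRelProj 𝒮 p chart) (hgen : 𝒮.IsGenDegOne) (hft : 𝒮.IsFTDeg 1)
    (hF : F.IsQuasicoherent) (W : Y.Opens) (hW : IsAffineOpen W) (y : Proj (𝒮.deg W hW)) (O : P.Opens)
    (σ : Γ(F, O)) (hy : (RelProj.emb p chart W hW).base y ∈ O) :
    ∃ q, ((Sub.top p chart F hP).coefData hP (hasGens hgen hft)).Rep hW y σ q := by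
  classical
  obtain ⟨s, hs⟩ := exists_gens hgen hft W hW
  obtain ⟨g, hgs, hg⟩ := hs y
  obtain ⟨e, c, -, hc, hyc, hcO⟩ := GrT.exists_basicOpen_le (𝒮.deg W hW)
    (U := RelProj.emb p chart W hW ⁻¹ᵁ O) (x := y) hy
  let a : 𝒮.deg W hW (1 + e) := ⟨(g : 𝒮.presheaf.obj (op W)) * c, SetLike.mul_mem_graded g.2 hc⟩
  have hle : ∀ g' : s, P.basicOpen (fr p chart (mkKey hW g'.1).1 (1 + e) a) ≤ O := fun g' x hx => by
    obtain ⟨y', -, rfl⟩ := (mem_dop p chart).mp (P.basicOpen_le _ hx)
    have h2 := ((emb_mem_basicOpen_fr p chart).mp hx).2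
    exact hcO (show y' ∈ ProjectiveSpectrum.basicOpen _ c from fun h => h2 (Ideal.mul_mem_left _ _ h))
  obtain ⟨K, v, hv, hvg⟩ := exists_extend hP F hF hW s hs a 0 (fun g' => res F (hle g') σ) fun g g' O' h h' => by
    rw [QC70.res_res, QC70.res_res, pow_zero, one_smul]
  rw [Nat.zero_add] at hv
  have hpow : (a : 𝒮.presheaf.obj (op W)) ^ K ∈ 𝒮.deg W hW (K * (1 + e)) := by
    simpa using SetLike.pow_mem_graded K a.2
  let m : ((Sub.top p chart F hP).grModule hP (hasGens hgen hft)).deg W hW (K * (1 + e)) :=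
    ⟨⟨single (K * (1 + e)) v, isCompat_single hv⟩, fun i hi k => by
      show cf i (single (K * (1 + e)) v) k = 0
      rw [cf_single, if_neg hi]⟩
  refine ⟨_, K * (1 + e), m, ⟨_, hpow⟩, GrT.pow_notMem (GrT.mul_notMem hg hyc) K, g, hg,
    P.basicOpen (fr p chart (mkKey hW g).1 (1 + e) a), P.basicOpen_le _, hle ⟨g, hgs⟩,
    (emb_mem_basicOpen_fr p chart).mpr ⟨hg, GrT.mul_notMem hg hyc⟩, ?_, rfl⟩
  show _ = res F _ (cf (K * (1 + e)) (single (K * (1 + e)) v) (mkKey hW g))
  rw [cf_single, if_pos rfl, fr_pow p chart (mkKey hW g).1 a K hpow, QC70.resO_pow]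
  exact (hvg ⟨g, hgs⟩).symm

end Groth.Agent.EGAProj74.GammaRel
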